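import Cfsg.Agent.Lib.ThreeTransp.U6Plane.Sylow

/-!
# The three classes of involutions of `PSU₆(2)` in the plane group

An involution is conjugate to an element of the plane group, and the classes are told by the rank.
-/

set_option autoImplicit false

namespace CfsgLib.U6.Plane

open Matrix Cfsg
open CfsgLib.UnitarySpec (psuMk)
open CfsgLib.ElemFusion

variable {F : Type} [Field F] [Fintype F]

local notation "PSU6" => (Cfsg.PSU 6 F 2)
local notation "I6" => (Fin 3 ⊕ Fin 3)

theorem rk_le : ∀ X : Her, rk X ≤ 3 ∧ (rk X = 0 ↔ X = X0) := by decide +kernel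

theorem det_zero_of_rk : ∀ X : Her, rk X ≠ 3 → det X = 0 := by decide +kernel

theorem det_ne_of_rk : ∀ X : Her, rk X = 3 → det X ≠ 0 := by decide +kernel

theorem minor_of_rk : ∀ X : Her, rk X = 2 → ∃ v ∈ minors X, v ≠ 0 := by decide +kernel

theorem conj_row : ∀ a b c : Fin 4,
    Coord.umul (Coord.umul (0, 0, c) (a, b, 0)) (Coord.uinv (0, 0, c)) = (a, s b (m a c), 0) := by decide +kernel

namespace Coord

variable (K : Coord F)

omit [Fintype F] in
theorem det_Xm (X : Her) : (K.Xm X).det = K.ι (det X) := by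
  obtain ⟨p, q, r, x, y, z⟩ := X
  simp only [det, Xm, K.ι_s, K.ι_m, K.ι_cj, Matrix.det_fin_three, Matrix.of_apply, Matrix.cons_val,
    Matrix.cons_val', Matrix.cons_val_zero, Matrix.cons_val_one]
  linear_combination (-(K.ι (bt p) * K.ι z * K.σ (K.ι z)) - K.ι x * K.σ (K.ι x) * K.ι (bt r) -
    K.ι y * K.ι (bt q) * K.σ (K.ι y)) * K.two

variable (hF : Fintype.card F = 2 ^ 2)
include hF

theorem rank_Xm (X : Her) : (K.Xm X).rank = rk X := by
  have hle := (rk_le X).1
  have h3 : (K.Xm X).rank ≤ 3 := by simpa using (K.Xm X).rank_le_card_width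
  have hne : ∀ {a : Fin 4}, a ≠ 0 → K.ι a ≠ 0 := fun {a} ha h => ha (K.ι_injective hF (h.trans K.ι_zero.symm))
  have hlt : det X = 0 → (K.Xm X).rank < 3 := by
    intro h0
    rcases h3.lt_or_eq with h | h
    · exact h
    exfalso
    have hli : LinearMap.range (K.Xm X).mulVecLin = ⊤ := Submodule.eq_top_of_finrank_eq (by
      rw [← Matrix.rank, h, Module.finrank_fin_fun])
    have hu : IsUnit (K.Xm X) := by
      rw [← Matrix.mulVec_surjective_iff_isUnit]
      exact LinearMap.range_eq_top.1 hli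
    rw [Matrix.isUnit_iff_isUnit_det, K.det_Xm, h0, K.ι_zero] at hu
    exact not_isUnit_zero hu
  interval_cases hk : rk X
  · rw [((rk_le X).2.1 hk), K.Xm_zero, Matrix.rank_zero]
  · obtain ⟨u, v, w, he⟩ := rk_one X hk
    refine le_antisymm ?_ (Nat.one_le_iff_ne_zero.2 fun h => ?_)
    · have : K.Xm X = vecMulVec ![K.ι u, K.ι v, K.ι w] ![K.σ (K.ι u), K.σ (K.ι v), K.σ (K.ι w)] := by
        rw [← K.mat6_ent, he]
        ext i j
        fin_cases i <;> fin_cases j <;>
          simp [mat6, vecMulVec, K.ι_m, K.ι_cj, map_mul, K.σ_σ, mul_comm]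
      rw [this]
      exact Matrix.rank_vecMulVec_le _ _
    · have hX : X = X0 := K.Xm_injective hF (by
        rw [K.Xm_zero]
        refine Matrix.ext_of_mulVec_single fun i => ?_
        rw [zero_mulVec]
        have hb : LinearMap.range (K.Xm X).mulVecLin = ⊥ := Submodule.finrank_eq_zero.1 h
        exact LinearMap.congr_fun (LinearMap.range_eq_bot.1 hb) _)
      rw [(rk_le X).2.2 hX] at hk
      exact zero_ne_one hk
  · refine le_antisymm (Nat.lt_succ_iff.1 (hlt (det_zero_of_rk X (by omega)))) ?_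
    obtain ⟨v, hv, hv0⟩ := minor_of_rk X hk
    have low : ∀ f g : Fin 2 → Fin 3, ((K.Xm X).submatrix f g).det = K.ι v → 2 ≤ (K.Xm X).rank := by
      intro f g h
      have hu : IsUnit ((K.Xm X).submatrix f g) := by
        rw [Matrix.isUnit_iff_isUnit_det, h]
        exact (hne hv0).isUnit
      have h2 := Matrix.rank_of_isUnit _ hu
      rw [Fintype.card_fin] at h2
      rw [← h2]
      exact Matrix.rank_submatrix_le _ _ _
    obtain ⟨p, q, r, x, y, z⟩ := X
    simp only [minors, List.mem_cons, List.not_mem_nil, or_false] at hv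
    rcases hv with rfl | rfl | rfl | rfl | rfl | rfl
    · refine low ![0, 1] ![0, 1] ?_
      rw [Matrix.det_fin_two]
      simp [Xm, K.ι_s, K.ι_m, K.ι_cj]
      linear_combination -(K.ι x * K.σ (K.ι x)) * K.two
    · refine low ![0, 2] ![0, 2] ?_
      rw [Matrix.det_fin_two]
      simp [Xm, K.ι_s, K.ι_m, K.ι_cj]
      linear_combination -(K.ι y * K.σ (K.ι y)) * K.two
    · refine low ![1, 2] ![1, 2] ?_
      rw [Matrix.det_fin_two]
      simp [Xm, K.ι_s, K.ι_m, K.ι_cj]
      linear_combination -(K.ι z * K.σ (K.ι z)) * K.two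
    · refine low ![0, 1] ![0, 2] ?_
      rw [Matrix.det_fin_two]
      simp [Xm, K.ι_s, K.ι_m, K.ι_cj]
      linear_combination -(K.σ (K.ι x) * K.ι y) * K.two
    · refine low ![0, 2] ![1, 2] ?_
      rw [Matrix.det_fin_two]
      simp [Xm, K.ι_s, K.ι_m, K.ι_cj]
      linear_combination -(K.ι y * K.σ (K.ι z)) * K.two
    · refine low ![1, 2] ![0, 1] ?_
      rw [Matrix.det_fin_two]
      simp [Xm, K.ι_s, K.ι_m, K.ι_cj]
      linear_combination -(K.ι (bt q) * K.σ (K.ι y)) * K.two
  · have hu : IsUnit (K.Xm X) := by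
      rw [Matrix.isUnit_iff_isUnit_det, K.det_Xm]
      exact (hne (det_ne_of_rk X hk)).isUnit
    simpa using Matrix.rank_of_isUnit _ hu

omit hF in
theorem el_sub_one (X : Her) :
    (((K.el g0 X : Cfsg.SU 6 F 2) : SpecialLinearGroup (Fin 6) F) : Matrix (Fin 6) (Fin 6) F) - 1 =
      K.φ (fromBlocks 0 (K.Xm X) 0 0) := by
  show K.φ (K.blocks g0 X) - 1 = _
  rw [← K.φ_one]
  simp only [φ, ← map_sub, ← mul_sub, ← sub_mul]
  congr 3
  rw [blocks, show uinv g0 = g0 by decide, K.Am_one, K.star_one, one_mul, ← fromBlocks_one]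
  ext (i | i) (j | j) <;> simp [Matrix.sub_apply, Matrix.one_apply]

theorem rank_el (X : Her) :
    ((((K.el g0 X : Cfsg.SU 6 F 2) : SpecialLinearGroup (Fin 6) F) : Matrix (Fin 6) (Fin 6) F) - 1).rank = rk X := by
  rw [K.el_sub_one, φ, Matrix.reindexAlgEquiv_apply, Matrix.rank_reindex,
    Matrix.rank_mul_eq_left_of_isUnit_det _ _ (IsUnit.of_mul_eq_one _ (by rw [← det_mul, K.P'_mul, det_one])),
    Matrix.rank_mul_eq_right_of_isUnit_det _ _ (IsUnit.of_mul_eq_one _ (by rw [← det_mul, K.P_mul, det_one])),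
    ← K.rank_Xm hF X]
  refine le_antisymm ?_ ?_
  · have e : (fromBlocks 0 (K.Xm X) 0 0 : Matrix I6 I6 F) =
        (fromRows 1 0 : Matrix I6 (Fin 3) F) * K.Xm X * (fromCols 0 1 : Matrix (Fin 3) I6 F) := by
      rw [fromRows_mul, fromRows_mul_fromCols]
      simp
    rw [e]
    exact (Matrix.rank_mul_le_left _ _).trans (Matrix.rank_mul_le_right _ _)
  · have e : K.Xm X = (fromBlocks 0 (K.Xm X) 0 0 : Matrix I6 I6 F).submatrix Sum.inl Sum.inr := by
      ext i j; rfl
    conv_lhs => rw [e]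
    exact Matrix.rank_submatrix_le _ _ _

theorem el_sq (X : Her) : K.el g0 X * K.el g0 X = 1 := by
  obtain ⟨Z, hZ, hZ'⟩ := K.exists_el_mul g0 g0 X X
  rw [hZ, (umul_g0 g0).1, ← K.el_one]
  congr 1
  refine K.Xm_injective hF (hZ'.trans ?_)
  rw [show Coord.uinv g0 = g0 by decide, K.Am_one, K.star_one, one_mul, mul_one, K.Xm_zero]
  ext i j
  show K.Xm X i j + K.Xm X i j = 0
  linear_combination K.Xm X i j * K.two

theorem t_ne_one {X : Her} (hX : X ≠ X0) : K.t g0 X ≠ 1 := fun h => by
  rw [← K.t_one] at h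
  exact hX (K.el_injective hF h).2

theorem isConj_of_rk {X Y : Her} (hX : X ≠ X0) (h : rk X = rk Y) : IsConj (K.t g0 X) (K.t g0 Y) := by
  haveI := charTwo hF
  refine psuMk.map_isConj (CfsgLib.Known.UnitaryInvolution.isConj_of_rank hF _ _ (K.el_sq hF X) (K.el_sq hF Y)
    (fun e => K.t_ne_one hF hX (by rw [t, e, map_one])) ?_)
  rw [K.rank_el hF, K.rank_el hF, h]

/-- Every involution is conjugate into the plane group. -/
theorem exists_conj_plane {x : PSU6} (hx : x * x = 1) (hx1 : x ≠ 1) :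
    ∃ X, X ≠ X0 ∧ IsConj x (K.t g0 X) := by
  haveI := charTwo hF
  obtain ⟨T, rfl, hTT⟩ := exists_invol_lift hF hx
  have hT1 : T ≠ 1 := fun e => hx1 (by rw [e, map_one])
  set M := ((T : SpecialLinearGroup (Fin 6) F) : Matrix (Fin 6) (Fin 6) F) - 1 with hM
  have hMM : M * M = 0 := by
    have : ((T : SpecialLinearGroup (Fin 6) F) : Matrix (Fin 6) (Fin 6) F) * (T : SpecialLinearGroup (Fin 6) F) = 1 :=
      congrArg (fun z : Cfsg.SU 6 F 2 => ((z : SpecialLinearGroup (Fin 6) F) : Matrix (Fin 6) (Fin 6) F)) hTT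
    rw [hM, sub_mul, mul_sub, this, one_mul, mul_one]
    ext i j
    simp only [Matrix.sub_apply, Matrix.zero_apply]
    linear_combination ((1 : Matrix (Fin 6) (Fin 6) F) i j -
      ((T : SpecialLinearGroup (Fin 6) F) : Matrix (Fin 6) (Fin 6) F) i j) * K.two
  have hr : M.rank ≤ 3 := by
    have h1 : LinearMap.range M.mulVecLin ≤ LinearMap.ker M.mulVecLin := by
      rintro _ ⟨y, rfl⟩
      rw [LinearMap.mem_ker, mulVecLin_apply, mulVecLin_apply, mulVec_mulVec, hMM, zero_mulVec]
    have h2 := LinearMap.finrank_range_add_finrank_ker M.mulVecLin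
    rw [Module.finrank_fin_fun] at h2
    have h3 := Submodule.finrank_mono h1
    rw [Matrix.rank]
    omega
  have hr0 : M.rank ≠ 0 := fun h => hT1 (Subtype.ext (Subtype.ext (sub_eq_zero.1
    (Matrix.ext_of_mulVec_single fun i => by
      rw [zero_mulVec]
      exact LinearMap.congr_fun (LinearMap.range_eq_bot.1 (Submodule.finrank_eq_zero.1 h)) _))))
  obtain ⟨X, hX⟩ : ∃ X : Her, rk X = M.rank := by
    revert hr hr0
    generalize M.rank = k
    intro hr hr0
    interval_cases k
    · contradiction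
    · exact ⟨(true, false, false, 0, 0, 0), by decide⟩
    · exact ⟨(true, true, false, 0, 0, 0), by decide⟩
    · exact ⟨(true, true, true, 0, 0, 0), by decide⟩
  exact ⟨X, fun h => hr0 (by rw [← hX, (rk_le X).2.2 h]),
    psuMk.map_isConj (CfsgLib.Known.UnitaryInvolution.isConj_of_rank hF _ _ hTT (K.el_sq hF X) hT1
      (by rw [K.rank_el hF, hX]))⟩

omit hF
omit [Fintype F] in
/-- A partial exchange of the hyperbolic basis. -/
def swapBlocks (d : Fin 3 → Bool) : Matrix I6 I6 F :=
  fromBlocks (diagonal fun i => if d i then 0 else 1) (diagonal fun i => if d i then 1 else 0)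
    (diagonal fun i => if d i then 1 else 0) (diagonal fun i => if d i then 0 else 1)

omit [Fintype F] in
theorem swapBlocks_sq (d : Fin 3 → Bool) : swapBlocks (F := F) d * swapBlocks d = 1 := by
  rw [swapBlocks, fromBlocks_multiply, ← fromBlocks_one]
  simp only [diagonal_mul_diagonal, diagonal_add, ← diagonal_one, ← diagonal_zero]
  congr 2 <;> funext i <;> cases d i <;> simp

omit [Fintype F] in
theorem swap_isometry (d : Fin 3 → Bool) :
    (swapBlocks (F := F) d)ᵀ * J * (swapBlocks d).map K.σ = J := by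
  have hs : (swapBlocks (F := F) d).map K.σ = swapBlocks d := by
    ext (i | i) (j | j) <;> simp [swapBlocks, diagonal] <;> split_ifs <;> simp
  have ht : (swapBlocks (F := F) d)ᵀ = swapBlocks d := by
    rw [swapBlocks, fromBlocks_transpose]; simp
  have hc : swapBlocks (F := F) d * J = J * swapBlocks d := by
    rw [swapBlocks, Coord.J, fromBlocks_multiply, fromBlocks_multiply]; simp
  rw [hs, ht, hc, mul_assoc, swapBlocks_sq, mul_one]

omit [Fintype F] in
include K in
theorem swap_det (d : Fin 3 → Bool) : (swapBlocks (F := F) d).det = 1 := by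
  have h := congrArg Matrix.det (swapBlocks_sq (F := F) d)
  rw [det_mul, det_one] at h
  have h' : ((swapBlocks (F := F) d).det - 1) * ((swapBlocks (F := F) d).det - 1) = 0 := by
    linear_combination h + (1 - (swapBlocks (F := F) d).det) * K.two
  exact sub_eq_zero.1 (mul_self_eq_zero.1 h')

omit [Fintype F] in
theorem swap_conj (d : Fin 3 → Bool) {g : Uni} {X : Her}
    (h : swapBlocks d * K.blocks g X0 = K.blocks g0 X * swapBlocks d) :
    psuMk (K.mkEl (swapBlocks d) (K.swap_det d) (K.swap_isometry d)) * K.t g X0 =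
      K.t g0 X * psuMk (K.mkEl (swapBlocks d) (K.swap_det d) (K.swap_isometry d)) := by
  rw [t, t, ← map_mul, ← map_mul]
  congr 1
  refine Subtype.ext (Subtype.ext ?_)
  show K.φ _ * K.φ _ = K.φ _ * K.φ _
  rw [K.φ_mul, K.φ_mul, h]

omit [Fintype F] in
theorem exists_row_conj : ∃ w : PSU6, ∀ a b : Fin 4,
    w * K.t (a, b, 0) X0 * w⁻¹ = K.t g0 (false, false, false, a, b, 0) := by
  refine ⟨_, fun a b => mul_inv_eq_of_eq_mul (K.swap_conj ![false, true, true] ?_)⟩
  rw [blocks, blocks, swapBlocks, fromBlocks_multiply, fromBlocks_multiply, K.Xm_zero, K.Am_one,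
    show uinv g0 = g0 by decide, K.Am_one, K.star_one, show uinv (a, b, (0 : Fin 4)) = (a, b, 0) by
      revert a b; decide]
  congr 1 <;> ext i j <;> fin_cases i <;> fin_cases j <;>
    simp [Am, Xm, star, bt, Matrix.mul_diagonal, Matrix.diagonal_mul, Matrix.vecMul_diagonal]

omit [Fintype F] in
theorem exists_col_conj : ∃ w : PSU6, ∀ c : Fin 4,
    w * K.t (0, 0, c) X0 * w⁻¹ = K.t g0 (false, false, false, 0, 0, c) := by
  refine ⟨_, fun c => mul_inv_eq_of_eq_mul (K.swap_conj ![false, false, true] ?_)⟩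
  rw [blocks, blocks, swapBlocks, fromBlocks_multiply, fromBlocks_multiply, K.Xm_zero, K.Am_one,
    show uinv g0 = g0 by decide, K.Am_one, K.star_one, show uinv (0, 0, c) = (0, 0, c) by revert c; decide]
  congr 1 <;> ext i j <;> fin_cases i <;> fin_cases j <;>
    simp [Am, Xm, star, bt, Matrix.mul_diagonal, Matrix.diagonal_mul, Matrix.vecMul_diagonal]

end Coord

end CfsgLib.U6.Plane
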