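import Mathlib

/-!
# Hermitian forms of degree three over four elements: coded computations

`m`, `s` are the product and sum of codes, `Uni` the upper unitriangular matrices, `Her` the Hermitian forms.
-/

set_option autoImplicit false

namespace CfsgLib.U6.Plane

/-- Product of codes. -/
def m (a b : Fin 4) : Fin 4 := (![![0, 0, 0, 0], ![0, 1, 2, 3], ![0, 2, 3, 1], ![0, 3, 1, 2]] a) b

/-- Sum of codes. -/
def s (a b : Fin 4) : Fin 4 := (![![0, 1, 2, 3], ![1, 0, 3, 2], ![2, 3, 0, 1], ![3, 2, 1, 0]] a) b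

/-- Conjugate of a code. -/
def cj (a : Fin 4) : Fin 4 := ![0, 1, 3, 2] a

/-- A bit as a code. -/
def bt (b : Bool) : Fin 4 := if b then 1 else 0

abbrev Uni : Type := Fin 4 × Fin 4 × Fin 4

abbrev Her : Type := Bool × Bool × Bool × Fin 4 × Fin 4 × Fin 4

/-- The entries of a Hermitian form: `11, 12, 13, 22, 23, 33`. -/
def ent : Her → Fin 4 × Fin 4 × Fin 4 × Fin 4 × Fin 4 × Fin 4
  | (p, q, r, x, y, z) => (bt p, x, y, bt q, z, bt r)

/-- `A X A*`. -/
def congr : Uni → Her → Fin 4 × Fin 4 × Fin 4 × Fin 4 × Fin 4 × Fin 4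
  | (a, b, c), (p, q, r, x, y, z) =>
    -- the entries of `A X`
    let r11 := s (bt p) (s (m a (cj x)) (m b (cj y)))
    let r12 := s x (s (m a (bt q)) (m b (cj z)))
    let r13 := s y (s (m a z) (m b (bt r)))
    let r22 := s (bt q) (m c (cj z))
    let r23 := s z (m c (bt r))
    (s r11 (s (m r12 (cj a)) (m r13 (cj b))), s r12 (m r13 (cj c)), r13, s r22 (m r23 (cj c)), r23, bt r)

/-- The forms fixed by an element. -/
def fixed (g : Uni) : Finset Her := Finset.univ.filter fun X => congr g X = ent X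

theorem fixed_le : ∀ g : Uni, g ≠ (0, 0, 0) → (fixed g).card ≤ 32 := by decide +kernel

theorem fixed_pair_top : (fixed (1, 0, 0) ∩ fixed (0, 1, 0)).card ≤ 16 := by decide +kernel

theorem fixed_pair_right : (fixed (0, 0, 1) ∩ fixed (0, 1, 0)).card ≤ 16 := by decide +kernel

/-- The determinant. -/
def det : Her → Fin 4
  | (p, q, r, x, y, z) =>
    s (s (s (m (bt p) (m (bt q) (bt r))) (m x (m z (cj y)))) (m y (m (cj x) (cj z))))
      (s (s (m (bt p) (m z (cj z))) (m (bt r) (m x (cj x)))) (m (bt q) (m y (cj y))))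

/-- The six principal and off-diagonal minors of order two. -/
def minors : Her → List (Fin 4)
  | (p, q, r, x, y, z) =>
    [s (m (bt p) (bt q)) (m x (cj x)), s (m (bt p) (bt r)) (m y (cj y)), s (m (bt q) (bt r)) (m z (cj z)),
      s (m (bt p) z) (m (cj x) y), s (m x (bt r)) (m y (cj z)), s (m (cj x) (cj z)) (m (bt q) (cj y))]

/-- The rank. -/
def rk (X : Her) : ℕ :=
  if det X ≠ 0 then 3 else if (minors X).any (· != 0) then 2
  else if ent X ≠ (0, 0, 0, 0, 0, 0) then 1 else 0

theorem rk_counts : (Finset.univ.filter fun X : Her => rk X = 1).card = 21 ∧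
    (Finset.univ.filter fun X : Her => rk X = 2).card = 210 ∧
    (Finset.univ.filter fun X : Her => rk X = 3).card = 280 := by decide +kernel

/-- A form of rank one is the square of a vector. -/
theorem rk_one : ∀ X : Her, rk X = 1 → ∃ u v w : Fin 4,
    ent X = (m u (cj u), m u (cj v), m u (cj w), m v (cj v), m v (cj w), m w (cj w)) := by decide +kernel

end CfsgLib.U6.Plane
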