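import Cfsg.Agent.Lib.ThreeTransp.U6Plane.Classes
import Cfsg.Agent.Lib.ThreeTransp.Cover.U6Double
import Cfsg.Prelude.Def_Transfer

/-!
# Elementary abelian subgroups of a double cover of `PSU₆(2)`

The preimage of an elementary abelian 2-group is elementary abelian, so a 2-subgroup has at most one
elementary abelian subgroup of order `2¹⁰` and none larger.  In a perfect cover no conjugation-invariant
choice of one lift of each involution is closed under products on the plane group.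
-/

set_option autoImplicit false

namespace CfsgLib.U6.DCover

open Cfsg CfsgLib.U6.Plane CfsgLib.ElemFusion
open scoped Pointwise

theorem code_mul : ∀ a b c : Fin 4, Coord.umul (0, 0, c) (a, b, (0 : Fin 4)) = (a, b, c) := by decide +kernel

theorem code_sq : ∀ c : Fin 4, Coord.umul (0, 0, c) (0, 0, c) = g0 := by decide +kernel

theorem code_conj : ∀ a b c : Fin 4,
    (a, s b (m a c), (0 : Fin 4)) = Coord.umul (Coord.umul (0, 0, c) (a, b, 0)) (0, 0, c) := by decide +kernel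

variable {F : Type} [Field F] [Fintype F] (hF : Fintype.card F = 2 ^ 2)
variable {H : Type*} [Group H] [Finite H] {π : H →* Cfsg.PSU 6 F 2} {z : H} (W : DCover π z) (hz1 : z ≠ 1)
include hF W hz1

local notation "PSU6" => (Cfsg.PSU 6 F 2)

omit hz1 [Finite H] in
/-- An element over an involution squares to one. -/
theorem sq_one_of_image {h : H} (hh : π h * π h = 1) : h * h = 1 := by
  by_cases h1 : π h = 1
  · rcases W.ker h h1 with rfl | rfl
    · exact one_mul 1
    · exact W.sq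
  · obtain ⟨k, hk, hk2⟩ := W.exists_lift hF hh h1
    rw [W.sq_eq hk, ← pow_two, ← hk2, pow_orderOf_eq_one]

omit hF [Finite H] in
theorem card_ker : Nat.card π.ker = 2 := by
  rw [← SetLike.coe_sort_coe, Nat.card_coe_set_eq, show (π.ker : Set H) = {1, z} from ?_,
    Set.ncard_pair hz1.symm]
  ext h
  constructor
  · intro hh
    rcases W.ker h hh with rfl | rfl
    exacts [Set.mem_insert _ _, Set.mem_insert_of_mem _ rfl]
  · rintro (rfl | rfl)
    exacts [map_one π, W.map_z]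

omit hF in
theorem card_comap (E : Subgroup PSU6) : Nat.card (E.comap π) = 2 * Nat.card E := by
  have h1 := Subgroup.card_mul_index (E.comap π)
  rw [Subgroup.index_comap_of_surjective _ W.surj] at h1
  have h2 := Subgroup.card_mul_index π.ker
  rw [W.card_ker hz1, Subgroup.index_ker, MonoidHom.range_eq_top.2 W.surj,
    Subgroup.card_top, ← Subgroup.card_mul_index E] at h2
  haveI : Finite PSU6 := Finite.of_surjective π W.surj
  refine Nat.eq_of_mul_eq_mul_right (Nat.pos_of_ne_zero (Subgroup.index_ne_zero_of_finite (H := E))) ?_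
  rw [h1, ← h2, mul_assoc]

omit hF in
theorem image_card_le (A : Subgroup H) : Nat.card A ≤ 2 * Nat.card (A.map π) := by
  rw [← W.card_comap hz1]
  exact Subgroup.card_le_of_le (Subgroup.le_comap_map π A)

theorem isElem_preimage {n : ℕ} {E : Subgroup PSU6} (hE : IsElem n E) : IsElem (2 * n) (E.comap π) := by
  have hs : ∀ x ∈ E.comap π, x * x = 1 := fun x hx => W.sq_one_of_image hF (hE.sq _ hx)
  refine ⟨fun x hx y hy => ?_, hs, by rw [W.card_comap hz1, hE.card]⟩
  have h := hs _ (mul_mem hx hy)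
  have e : ∀ {a : H}, a * a = 1 → a⁻¹ = a := fun ha => inv_eq_of_mul_eq_one_right ha
  calc x * y = (x * y)⁻¹ := (e h).symm
    _ = y⁻¹ * x⁻¹ := mul_inv_rev _ _
    _ = y * x := by rw [e (hs _ hx), e (hs _ hy)]

omit W hz1 [Finite H] in
/-- A commutative group of involutions of a 2-subgroup of `PSU₆(2)` of order at least `2⁹` is the one
elementary abelian subgroup of that order. -/
theorem eq_of_large {Q B E : Subgroup PSU6} (hQ : IsPGroup 2 Q) (hE : IsElem (2 ^ 9) E) (hEQ : E ≤ Q)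
    (hc : ∀ x ∈ B, ∀ y ∈ B, Commute x y) (hs : ∀ x ∈ B, x * x = 1) (hBQ : B ≤ Q) (hB : 2 ^ 9 ≤ Nat.card B) :
    B = E := by
  haveI : Fact (Nat.Prime 2) := ⟨Nat.prime_two⟩
  haveI : Finite PSU6 := Nat.finite_of_card_ne_zero (by rw [card_psu6 hF]; norm_num)
  have hp : IsPGroup 2 B := fun x => ⟨1, Subtype.ext (by
    rw [pow_one, SubgroupClass.coe_pow, pow_two]; exact hs x.1 x.2)⟩
  obtain ⟨n, hn⟩ := IsPGroup.iff_card.1 hp
  have hn9 : 9 ≤ n := (Nat.pow_le_pow_iff_right (by norm_num)).1 (hn ▸ hB)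
  have hsub : ∀ K : Subgroup B, Nat.card K = 2 ^ 9 → K.map B.subtype = E := by
    intro K hK
    refine uniq_plane hF Q hQ le_top _ _ ⟨?_, ?_, ?_⟩ hE ((Subgroup.map_subtype_le _).trans hBQ) hEQ
    · rintro _ ⟨x, -, rfl⟩ _ ⟨y, -, rfl⟩
      exact hc _ x.2 _ y.2
    · rintro _ ⟨x, -, rfl⟩
      exact hs _ x.2
    · rw [← Nat.card_congr (K.equivMapOfInjective _ B.subtype_injective).toEquiv, hK]
  have hdvd : 2 ^ 9 ∣ Nat.card B := hn ▸ Nat.pow_dvd_pow 2 hn9
  refine le_antisymm (fun x hx => ?_) ?_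
  · have hcz : ∃ m ≤ 9, Nat.card (Subgroup.zpowers (⟨x, hx⟩ : B)) = 2 ^ m := by
      have hd : orderOf (⟨x, hx⟩ : B) ∣ 2 :=
        orderOf_dvd_of_pow_eq_one (Subtype.ext (by rw [SubgroupClass.coe_pow, pow_two]; exact hs x hx))
      obtain ⟨m, hm, hm'⟩ := (Nat.dvd_prime_pow Nat.prime_two).1 (show orderOf (⟨x, hx⟩ : B) ∣ 2 ^ 1 by rwa [pow_one])
      exact ⟨m, by omega, by rw [Nat.card_zpowers, hm']⟩
    obtain ⟨m, hm, hm'⟩ := hcz
    obtain ⟨K, hK, hle⟩ := Sylow.exists_subgroup_card_pow_prime_le 2 hdvd _ hm' hm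
    rw [← hsub K hK]
    exact ⟨_, hle (Subgroup.mem_zpowers _), rfl⟩
  · obtain ⟨K, hK⟩ := Sylow.exists_subgroup_card_pow_prime 2 hdvd
    rw [← hsub K hK]
    exact Subgroup.map_subtype_le _

/-- A 2-subgroup of the cover contains at most one elementary abelian subgroup of order `2¹⁰`. -/
theorem uniq_top : Uniq (2 ^ 10) (⊤ : Subgroup H) := by
  intro Q hQ _ A A' hA hA' hAQ hA'Q
  haveI : Fact (Nat.Prime 2) := ⟨Nat.prime_two⟩
  haveI : Finite PSU6 := Finite.of_surjective π W.surj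
  obtain ⟨K⟩ := exists_coord hF
  obtain ⟨P, hP⟩ := (hQ.map π).exists_le_sylow
  obtain ⟨P₀, hP₀⟩ := K.exists_sylow hF
  obtain ⟨c, rfl⟩ := MulAction.exists_smul_eq PSU6 P₀ P
  have hE : IsElem (2 ^ 9) ((K.planeGroup hF).map (MulAut.conj c).toMonoidHom) :=
    (K.isElem_plane hF).map (MulAut.conj c).injective
  have hEP : (K.planeGroup hF).map (MulAut.conj c).toMonoidHom ≤ ((c • P₀ : Sylow 2 PSU6) : Subgroup PSU6) := by
    rintro _ ⟨x, ⟨X, rfl⟩, rfl⟩
    exact ⟨K.t g0 X, by rw [hP₀]; exact (K.mem_sylowGroup).2 ⟨g0, X, rfl⟩, rfl⟩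
  have key : ∀ {B : Subgroup H}, IsElem (2 ^ 10) B → B ≤ Q →
      B = ((K.planeGroup hF).map (MulAut.conj c).toMonoidHom).comap π := by
    intro B hB hBQ
    have h1 := W.image_card_le hz1 B
    rw [hB.card] at h1
    have he := eq_of_large hF (c • P₀).isPGroup' hE hEP (B := B.map π)
      (by rintro _ ⟨x, hx, rfl⟩ _ ⟨y, hy, rfl⟩; exact (hB.comm x hx y hy).map π)
      (by rintro _ ⟨x, hx, rfl⟩; rw [← map_mul, hB.sq x hx, map_one])
      ((Subgroup.map_mono hBQ).trans hP) (by omega)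
    refine Subgroup.eq_of_le_of_card_ge (Subgroup.map_le_iff_le_comap.1 he.le) (le_of_eq ?_)
    rw [hB.card, (W.isElem_preimage hF hz1 hE).card]
    norm_num
  rw [key hA hAQ, key hA' hA'Q]

/-- The Thompson subgroup of a Sylow 2-subgroup of the cover. -/
theorem thompson_eq (K : Coord F) (P : Sylow 2 H) : ∃ c : PSU6,
    Cfsg.thompsonSubgroupOf 2 (P : Subgroup H) = ((K.planeGroup hF).map (MulAut.conj c).toMonoidHom).comap π := by
  haveI : Fact (Nat.Prime 2) := ⟨Nat.prime_two⟩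
  haveI : Finite PSU6 := Finite.of_surjective π W.surj
  let T : Sylow 2 PSU6 := P.mapSurjective W.surj
  have hT : (T : Subgroup PSU6) = (P : Subgroup H).map π := rfl
  obtain ⟨P₀, hP₀⟩ := K.exists_sylow hF
  obtain ⟨c, hc⟩ := MulAction.exists_smul_eq PSU6 P₀ T
  refine ⟨c, ?_⟩
  set E₀ := (K.planeGroup hF).map (MulAut.conj c).toMonoidHom with hE₀
  have hE : IsElem (2 ^ 9) E₀ := (K.isElem_plane hF).map (MulAut.conj c).injective
  have hET : E₀ ≤ (T : Subgroup PSU6) := by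
    rw [← hc]
    rintro _ ⟨x, ⟨X, rfl⟩, rfl⟩
    exact ⟨K.t g0 X, by rw [hP₀]; exact (K.mem_sylowGroup).2 ⟨g0, X, rfl⟩, rfl⟩
  set E := E₀.comap π with hEdef
  have hel : IsElem (2 ^ 10) E := by
    have := W.isElem_preimage hF hz1 hE
    norm_num at this ⊢
    exact this
  have hzP : z ∈ (P : Subgroup H) := by
    have hn : (Subgroup.zpowers z).Normal := ⟨fun n hn g => by
      obtain ⟨k, rfl⟩ := hn
      rw [show g * z ^ k * g⁻¹ = z ^ k by rw [← ((W.cent g).zpow_left k).eq, mul_inv_cancel_right]]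
      exact ⟨k, rfl⟩⟩
    have hp : IsPGroup 2 (Subgroup.zpowers z) := IsPGroup.of_card (n := 1) (by
      rw [Nat.card_zpowers, pow_one]; exact orderOf_eq_prime (by rw [pow_two, W.sq]) hz1)
    exact P.is_maximal' (hp.to_sup_of_normal_left P.isPGroup') le_sup_right ▸
      Subgroup.mem_sup_left (Subgroup.mem_zpowers z)
  have hEP : E ≤ (P : Subgroup H) := by
    intro h hh
    have : π h ∈ (T : Subgroup PSU6) := hET hh
    rw [hT] at this
    obtain ⟨p, hp, he⟩ := this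
    rcases W.eq_or he with rfl | rfl
    exacts [hp, mul_mem hp hzP]
  have hiff : ∀ A : Subgroup (P : Subgroup H), Cfsg.IsElementaryAbelian 2 A → 2 ^ 10 ≤ Nat.card A →
      A = E.subgroupOf P := by
    rintro A ⟨hcA, h2⟩ hcard
    have hcard' : 2 ^ 10 ≤ Nat.card (A.map (P : Subgroup H).subtype) := by
      rwa [← Nat.card_congr (A.equivMapOfInjective _ (Subgroup.subtype_injective _)).toEquiv]
    have h1 := W.image_card_le hz1 (A.map (P : Subgroup H).subtype)
    have he := eq_of_large hF T.isPGroup' hE hET (B := (A.map (P : Subgroup H).subtype).map π) (by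
        rintro _ ⟨_, ⟨x, hx, rfl⟩, rfl⟩ _ ⟨_, ⟨y, hy, rfl⟩, rfl⟩
        have : Commute x y := congrArg Subtype.val (hcA.is_comm.comm ⟨x, hx⟩ ⟨y, hy⟩)
        exact (this.map (P : Subgroup H).subtype).map π) (by
        rintro _ ⟨_, ⟨x, hx, rfl⟩, rfl⟩
        rw [← map_mul, ← map_mul, ← pow_two, h2 x hx, map_one, map_one])
      (by rw [hT]; exact Subgroup.map_mono (Subgroup.map_subtype_le _)) (by omega)
    refine Subgroup.map_injective (Subgroup.subtype_injective _) ?_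
    rw [Subgroup.map_subgroupOf_eq_of_le hEP]
    exact Subgroup.eq_of_le_of_card_ge (Subgroup.map_le_iff_le_comap.1 he.le) (hel.card ▸ hcard')
  have hEt : Cfsg.IsElementaryAbelian 2 (E.subgroupOf P) :=
    ⟨⟨⟨fun x y => Subtype.ext (Subtype.ext (hel.comm _ x.2 _ y.2).eq)⟩⟩, fun x hx => Subtype.ext (by
      rw [SubgroupClass.coe_pow, pow_two]; exact hel.sq _ hx)⟩
  have hEcard : Nat.card (E.subgroupOf P) = 2 ^ 10 := by
    rw [Nat.card_congr (Subgroup.subgroupOfEquivOfLe hEP).toEquiv, hel.card]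
  have hmax : Cfsg.maxElementaryAbelianSubgroups 2 ↥(P : Subgroup H) = {E.subgroupOf P} := by
    ext A
    constructor
    · rintro ⟨hA, hmax⟩
      exact hiff A hA (hEcard ▸ hmax _ hEt)
    · rintro rfl
      refine ⟨hEt, fun A hA => ?_⟩
      by_contra hlt
      push Not at hlt
      rw [hiff A hA (by omega)] at hlt
      exact lt_irrefl _ hlt
  rw [Cfsg.thompsonSubgroupOf, Cfsg.thompsonSubgroup, hmax, sSup_singleton,
    Subgroup.map_subgroupOf_eq_of_le hEP]

/-- The lifts chosen by `Good` in a subgroup `V`. -/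
def sel (π : H →* PSU6) (Good : H → Prop) (V : Subgroup PSU6) : Set H :=
  {h | h = 1 ∨ (π h ∈ V ∧ π h ≠ 1 ∧ Good h)}

/-- A conjugation-invariant choice of one lift of each involution is not closed under products on the plane
group, in a perfect cover. -/
theorem no_selection (hperf : commutator H = ⊤) (K : Coord F) (Good : H → Prop)
    (hinv : ∀ k h, Good h → Good (k * h * k⁻¹))
    (hone : ∀ h, π h * π h = 1 → π h ≠ 1 → (Good h ↔ ¬ Good (h * z)))
    (hclosed : ∀ h ∈ sel π Good (K.planeGroup hF), ∀ k ∈ sel π Good (K.planeGroup hF),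
      h * k ∈ sel π Good (K.planeGroup hF)) : False := by
  classical
  haveI : Finite PSU6 := Finite.of_surjective π W.surj
  -- `V` is conjugate into the plane group
  have closed : ∀ (V : Subgroup PSU6) (w : PSU6), (∀ v ∈ V, w * v * w⁻¹ ∈ K.planeGroup hF) →
      ∃ R : Subgroup H, (R : Set H) = sel π Good V := by
    intro V w hw
    obtain ⟨u, hu⟩ := W.surj w
    have move : ∀ {h : H}, h ∈ sel π Good V → u * h * u⁻¹ ∈ sel π Good (K.planeGroup hF) := by
      rintro h (rfl | ⟨h1, h2, h3⟩)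
      · exact Or.inl (by group)
      · exact Or.inr ⟨by rw [map_mul, map_mul, map_inv, hu]; exact hw _ h1, fun e => h2 (by
          simpa using e), hinv u h h3⟩
    have hmul : ∀ {h k : H}, h ∈ sel π Good V → k ∈ sel π Good V → h * k ∈ sel π Good V := by
      intro h k hh hk
      have hv : π (h * k) ∈ V := by
        have : ∀ {x : H}, x ∈ sel π Good V → π x ∈ V := by
          rintro x (rfl | ⟨h1, -, -⟩)
          exacts [by rw [map_one]; exact one_mem V, h1]
        rw [map_mul]; exact mul_mem (this hh) (this hk)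
      rcases hclosed _ (move hh) _ (move hk) with e | ⟨-, h2, h3⟩
      · exact Or.inl (conj_eq_one_iff.1 (show u * (h * k) * u⁻¹ = 1 by rw [← e]; group))
      · refine Or.inr ⟨hv, fun e => h2 ?_, ?_⟩
        · rw [show u * h * u⁻¹ * (u * k * u⁻¹) = u * (h * k) * u⁻¹ by group, map_mul, map_mul π u, e,
            mul_one, map_inv, mul_inv_cancel]
        · have := hinv u⁻¹ _ h3
          rwa [show u⁻¹ * (u * h * u⁻¹ * (u * k * u⁻¹)) * u⁻¹⁻¹ = h * k by group] at this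
    refine ⟨{ carrier := sel π Good V, one_mem' := Or.inl rfl, mul_mem' := hmul, inv_mem' := ?_ }, rfl⟩
    rintro h (rfl | ⟨h1, h2, h3⟩)
    · exact Or.inl inv_one
    · have hh : π h * π h = 1 := by
        have := (K.isElem_plane hF).sq _ (hw _ h1)
        exact conj_eq_one_iff.1 (show w * (π h * π h) * w⁻¹ = 1 by rw [← this]; group)
      rw [show h⁻¹ = h from inv_eq_of_mul_eq_one_right (W.sq_one_of_image hF hh)]
      exact Or.inr ⟨h1, h2, h3⟩
  have isq : ∀ {V : Subgroup PSU6} {w : PSU6}, (∀ v ∈ V, w * v * w⁻¹ ∈ K.planeGroup hF) →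
      ∀ v ∈ V, v * v = 1 := fun {V w} hw v hv =>
    conj_eq_one_iff.1 (show w * (v * v) * w⁻¹ = 1 by rw [← (K.isElem_plane hF).sq _ (hw v hv)]; group)
  have lift : ∀ {V : Subgroup PSU6} {w : PSU6}, (∀ v ∈ V, w * v * w⁻¹ ∈ K.planeGroup hF) →
      ∀ v ∈ V, ∃ h ∈ sel π Good V, π h = v := by
    intro V w hw v hv
    by_cases h1 : v = 1
    · exact ⟨1, Or.inl rfl, by rw [map_one, h1]⟩
    obtain ⟨h, rfl⟩ := W.surj v
    by_cases hg : Good h
    · exact ⟨h, Or.inr ⟨hv, h1, hg⟩, rfl⟩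
    · refine ⟨h * z, Or.inr ⟨?_, ?_, ?_⟩, ?_⟩
      · rwa [map_mul, W.map_z, mul_one]
      · rwa [map_mul, W.map_z, mul_one]
      · by_contra hn
        exact hg ((hone h (isq hw _ hv) h1).2 hn)
      · rw [map_mul, W.map_z, mul_one]
  -- the three subgroups
  let V₁ : Subgroup PSU6 :=
    { carrier := Set.range fun p : Fin 4 × Fin 4 => K.t (p.1, p.2, 0) X0
      one_mem' := ⟨(0, 0), K.t_one⟩
      mul_mem' := by
        rintro _ _ ⟨⟨a, b⟩, rfl⟩ ⟨⟨a', b'⟩, rfl⟩
        refine ⟨(s a a', s b b'), ?_⟩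
        show K.t _ X0 = _
        rw [K.t_mul_uni hF]
        congr 1
        revert a b a' b'; decide
      inv_mem' := by
        rintro _ ⟨⟨a, b⟩, rfl⟩
        refine ⟨(a, b), (inv_eq_of_mul_eq_one_right ?_).symm⟩
        rw [K.t_mul_uni hF, show Coord.umul (a, b, (0 : Fin 4)) (a, b, 0) = g0 by revert a b; decide, K.t_one] }
  let V₂ : Subgroup PSU6 :=
    { carrier := Set.range fun c : Fin 4 => K.t (0, 0, c) X0
      one_mem' := ⟨0, K.t_one⟩
      mul_mem' := by
        rintro _ _ ⟨c, rfl⟩ ⟨c', rfl⟩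
        refine ⟨s c c', ?_⟩
        show K.t _ X0 = _
        rw [K.t_mul_uni hF]
        congr 1
        revert c c'; decide
      inv_mem' := by
        rintro _ ⟨c, rfl⟩
        refine ⟨c, (inv_eq_of_mul_eq_one_right ?_).symm⟩
        rw [K.t_mul_uni hF, code_sq c, K.t_one] }
  obtain ⟨w₁, hw₁⟩ := K.exists_row_conj
  obtain ⟨w₂, hw₂⟩ := K.exists_col_conj
  have c₁ : ∀ v ∈ V₁, w₁ * v * w₁⁻¹ ∈ K.planeGroup hF := by
    rintro _ ⟨⟨a, b⟩, rfl⟩
    exact ⟨_, (hw₁ a b).symm⟩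
  have c₂ : ∀ v ∈ V₂, w₂ * v * w₂⁻¹ ∈ K.planeGroup hF := by
    rintro _ ⟨c, rfl⟩
    exact ⟨_, (hw₂ c).symm⟩
  have c₀ : ∀ v ∈ K.planeGroup hF, (1 : PSU6) * v * 1⁻¹ ∈ K.planeGroup hF := fun v hv => by simpa using hv
  obtain ⟨R₁, hR₁⟩ := closed V₁ w₁ c₁
  obtain ⟨R₂, hR₂⟩ := closed V₂ w₂ c₂
  obtain ⟨R₀, hR₀⟩ := closed (K.planeGroup hF) 1 c₀
  -- normalisation
  have norms : ∀ {V : Subgroup PSU6} {R : Subgroup H}, (R : Set H) = sel π Good V →
      ∀ u : H, (∀ v ∈ V, π u * v * (π u)⁻¹ ∈ V) → u ∈ Subgroup.normalizer (R : Set H) := by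
    intro V R hR u hu
    refine Subgroup.mem_normalizer_fintype fun h hh => ?_
    rw [hR] at hh ⊢
    rcases hh with rfl | ⟨h1, h2, h3⟩
    · exact Or.inl (by group)
    · exact Or.inr ⟨by rw [map_mul, map_mul, map_inv]; exact hu _ h1, fun e => h2 (by simpa using e), hinv u h h3⟩
  have img : ∀ {V : Subgroup PSU6} {R : Subgroup H}, (R : Set H) = sel π Good V → ∀ h ∈ R, π h ∈ V := by
    intro V R hR h hh
    have : h ∈ sel π Good V := hR ▸ hh
    rcases this with rfl | ⟨h1, -, -⟩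
    exacts [by rw [map_one]; exact one_mem V, h1]
  have n21 : R₂ ≤ Subgroup.normalizer (R₁ : Set H) := by
    intro h hh
    refine norms hR₁ h ?_
    obtain ⟨c, hc⟩ := img hR₂ h hh
    rintro _ ⟨⟨a, b⟩, rfl⟩
    refine ⟨(a, s b (m a c)), ?_⟩
    have hinvt : (K.t (0, 0, c) X0)⁻¹ = K.t (0, 0, c) X0 := inv_eq_of_mul_eq_one_right (by
      rw [K.t_mul_uni hF, code_sq c, K.t_one])
    rw [← hc]
    show K.t (a, s b (m a c), 0) X0 = K.t (0, 0, c) X0 * K.t (a, b, 0) X0 * (K.t (0, 0, c) X0)⁻¹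
    rw [hinvt, K.t_mul_uni hF, K.t_mul_uni hF]
    rw [← code_conj a b c]
  have hT : ∀ g X, ∀ v ∈ K.planeGroup hF, K.t g X * v * (K.t g X)⁻¹ ∈ K.planeGroup hF := by
    rintro g X _ ⟨Y, rfl⟩
    obtain ⟨Z, hZ, -⟩ := K.exists_t_mul g g0 X Y
    rw [(umul_g0 g).1] at hZ
    obtain ⟨h, W', hh⟩ := (K.mem_sylowGroup).1 (inv_mem ((K.mem_sylowGroup).2 ⟨g, X, rfl⟩))
    obtain ⟨Z', hZ', -⟩ := K.exists_t_mul g h Z W'
    obtain ⟨Z'', hZ'', -⟩ := K.exists_t_mul g h X W'
    rw [hh, mul_inv_cancel, ← K.t_one] at hZ''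
    refine ⟨Z', ?_⟩
    show K.t g0 Z' = K.t g X * K.t g0 Y * (K.t g X)⁻¹
    rw [hZ, ← hh, hZ', ← (K.el_injective hF hZ'').1]
  have n0 : R₂ ⊔ R₁ ≤ Subgroup.normalizer (R₀ : Set H) := by
    rw [sup_le_iff]
    constructor <;> intro h hh <;> refine norms hR₀ h ?_
    · obtain ⟨c, hc⟩ := img hR₂ h hh
      rw [← hc]; exact hT _ _
    · obtain ⟨p, hp⟩ := img hR₁ h hh
      rw [← hp]; exact hT _ _
  let S : Subgroup H := R₂ ⊔ R₁ ⊔ R₀
  have hS : (S : Set H) = (R₂ : Set H) * R₁ * R₀ := by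
    show ((R₂ ⊔ R₁ ⊔ R₀ : Subgroup H) : Set H) = _
    rw [Subgroup.coe_mul_of_left_le_normalizer_right _ _ n0,
      Subgroup.coe_mul_of_left_le_normalizer_right _ _ n21]
  have hzS : z ∉ S := by
    intro hz
    rw [← SetLike.mem_coe, hS] at hz
    obtain ⟨_, ⟨k₂, hk₂, k₁, hk₁, rfl⟩, k₀, hk₀, he⟩ := hz
    obtain ⟨c, hc⟩ := img hR₂ _ hk₂
    obtain ⟨⟨a, b⟩, hab⟩ := img hR₁ _ hk₁
    obtain ⟨X, hX⟩ := img hR₀ _ hk₀
    have h1 := congrArg π he
    simp only [map_mul, W.map_z, ← hc, ← hab, ← hX] at h1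
    rw [K.t_mul_uni hF, code_mul a b c,
      K.t_mul_g0 hF, ← K.t_one] at h1
    obtain ⟨hg, rfl⟩ := K.el_injective hF h1
    obtain ⟨rfl, hbc⟩ := Prod.mk.inj hg
    obtain ⟨rfl, rfl⟩ := Prod.mk.inj hbc
    have one : ∀ {V : Subgroup PSU6} {R : Subgroup H}, (R : Set H) = sel π Good V → ∀ k ∈ R, π k = 1 → k = 1 := by
      intro V R hR k hk h
      have : k ∈ sel π Good V := hR ▸ hk
      exact this.resolve_right fun hh => hh.2.1 h
    rw [one hR₂ _ hk₂ (hc.symm.trans K.t_one), one hR₁ _ hk₁ (hab.symm.trans K.t_one),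
      one hR₀ _ hk₀ (hX.symm.trans K.t_one)] at he
    exact hz1 (by simpa using he.symm)
  set T := (K.sylowGroup).comap π with hTdef
  have hSor : ∀ h ∈ T, h ∈ S ∨ h * z ∈ S := by
    intro h hh
    obtain ⟨⟨a, b, c⟩, X, hgX⟩ := (K.mem_sylowGroup).1 hh
    obtain ⟨k₂, hk₂, e₂⟩ := lift c₂ (K.t (0, 0, c) X0) ⟨c, rfl⟩
    obtain ⟨k₁, hk₁, e₁⟩ := lift c₁ (K.t (a, b, 0) X0) ⟨(a, b), rfl⟩
    obtain ⟨k₀, hk₀, e₀⟩ := lift c₀ (K.t g0 X) ⟨X, rfl⟩
    have hmem : k₂ * k₁ * k₀ ∈ S := by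
      rw [← SetLike.mem_coe, hS, hR₂, hR₁, hR₀]
      exact Set.mul_mem_mul (Set.mul_mem_mul hk₂ hk₁) hk₀
    have hπ : π (k₂ * k₁ * k₀) = π h := by
      rw [map_mul, map_mul, e₂, e₁, e₀, K.t_mul_uni hF,
        code_mul a b c, K.t_mul_g0 hF, hgX]
    rcases W.eq_or hπ with rfl | rfl
    · exact Or.inl hmem
    · exact Or.inr (by rw [mul_assoc, W.sq, mul_one]; exact hmem)
  let φ : T →* ℤˣ :=
    MonoidHom.mk' (fun h => if (h : H) ∈ S then 1 else -1) (by
      rintro ⟨h, hh⟩ ⟨k, hk⟩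
      show (if h * k ∈ S then (1 : ℤˣ) else -1) = (if h ∈ S then 1 else -1) * if k ∈ S then 1 else -1
      by_cases h1 : h ∈ S <;> by_cases h2 : k ∈ S
      · rw [if_pos h1, if_pos h2, if_pos (mul_mem h1 h2), one_mul]
      · rw [if_pos h1, if_neg h2, if_neg fun e => h2 ((mul_mem_cancel_left h1).1 e), one_mul]
      · rw [if_neg h1, if_pos h2, if_neg fun e => h1 ((mul_mem_cancel_right h2).1 e), mul_one]
      · have e1 := (hSor h hh).resolve_left h1
        have e2 := (hSor k hk).resolve_left h2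
        have : h * z * (k * z) = h * k := by
          rw [(W.cent k).mul_mul_mul_comm, W.sq, mul_one]
        rw [if_neg h1, if_neg h2, if_pos (this ▸ mul_mem e1 e2), neg_mul_neg, one_mul])
  have hodd : Odd T.index := by
    rw [hTdef, Subgroup.index_comap_of_surjective _ W.surj]
    have h := Subgroup.card_mul_index K.sylowGroup
    rw [K.card_sylowGroup hF, card_psu6 hF] at h
    rw [Nat.eq_of_mul_eq_mul_left (by norm_num) h]
    exact ⟨140332, by norm_num⟩
  have key : ∀ (k : ℕ) (g₀ : H), g₀⁻¹ * z ^ k * g₀ ∈ T → g₀⁻¹ * z ^ k * g₀ = z ^ k := fun k g₀ _ => by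
    rw [mul_assoc, ((W.cent g₀).pow_left k).eq, inv_mul_cancel_left]
  have h1 : MonoidHom.transfer φ z = 1 := by
    have : z ∈ commutator H := by rw [hperf]; exact Subgroup.mem_top z
    exact Abelianization.commutator_subset_ker _ this
  rw [MonoidHom.transfer_eq_pow φ z key] at h1
  have hzo : z ^ T.index = z := by
    obtain ⟨r, hr⟩ := hodd
    rw [hr, pow_succ, pow_mul, pow_two, W.sq, one_pow, one_mul]
  change (if z ^ T.index ∈ S then (1 : ℤˣ) else -1) = 1 at h1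
  rw [hzo, if_neg hzS] at h1
  exact absurd h1 (by decide)

end CfsgLib.U6.DCover
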