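import Cfsg.Agent.Lib.ThreeTransp.U6Plane.Code
import Cfsg.Agent.Lib.ThreeTransp.U6Points

/-!
# Unitriangular unitary matrices in a hyperbolic basis of `F⁶`

`el g X` has, in a hyperbolic basis, the blocks `A, A X, 0, (A⁻¹)*`.
-/

set_option autoImplicit false

namespace CfsgLib.U6.Plane

open Matrix Cfsg
open CfsgLib.UnitarySpec (psuMk)

variable {F : Type} [Field F] [Fintype F]

/-- Data of a field with four elements. -/
structure Coord (F : Type) [Field F] where
  ω : F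
  σ : F ≃+* F
  hσ : ∀ a, σ a = a ^ 2
  hω : ω ^ 2 + ω + 1 = 0
  two : (2 : F) = 0
  cases : ∀ x : F, x = 0 ∨ x = 1 ∨ x = ω ∨ x = ω ^ 2

theorem exists_coord (hF : Fintype.card F = 2 ^ 2) : Nonempty (Coord F) := by
  obtain ⟨w, -, -, hw, hc⟩ := exists_omega hF
  obtain ⟨σ, hσ⟩ := exists_sigma hF
  exact ⟨⟨w, σ, hσ, hw, by rw [← one_add_one_eq_two]; exact U6.add_self hF 1, hc⟩⟩

namespace Coord

variable (K : Coord F)

/-- The element of a code. -/
def ι (a : Fin 4) : F := ![0, 1, K.ω, K.ω ^ 2] a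

@[simp] theorem ι_zero : K.ι 0 = 0 := rfl

@[simp] theorem ι_one : K.ι 1 = 1 := rfl

omit [Fintype F] in
theorem ω_cube : K.ω ^ 3 = 1 := by linear_combination (K.ω - 1) * K.hω

omit [Fintype F] in
theorem σ_ω : K.σ K.ω = K.ω ^ 2 := K.hσ _

omit [Fintype F] in
theorem σ_σ (a : F) : K.σ (K.σ a) = a := by
  rw [K.hσ, K.hσ, ← pow_mul]
  rcases K.cases a with rfl | rfl | rfl | rfl
  · simp
  · simp
  · linear_combination K.ω * K.ω_cube
  · linear_combination (K.ω ^ 5 + K.ω ^ 2) * K.ω_cube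

omit [Fintype F] in
theorem ι_m (a b : Fin 4) : K.ι (m a b) = K.ι a * K.ι b := by
  fin_cases a <;> fin_cases b <;> simp [ι, m] <;>
    first
      | ring1
      | linear_combination -K.ω_cube
      | linear_combination -K.ω * K.ω_cube
      | linear_combination K.ω_cube
      | linear_combination K.ω * K.ω_cube
      | linear_combination -1 * K.ω_cube

omit [Fintype F] in
theorem ι_s (a b : Fin 4) : K.ι (s a b) = K.ι a + K.ι b := by
  have h := K.hω
  have h2 := K.two
  fin_cases a <;> fin_cases b <;> simp [ι, s] <;>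
    first
      | linear_combination -h
      | linear_combination h - K.ω ^ 2 * h2 - h2
      | linear_combination h - K.ω * h2 - h2
      | linear_combination h - (1 + K.ω) * h2
      | linear_combination h - (1 + K.ω ^ 2) * h2
      | linear_combination h - (K.ω + K.ω ^ 2) * h2
      | linear_combination -h2
      | linear_combination -K.ω * h2
      | linear_combination -K.ω ^ 2 * h2
      | linear_combination -h + K.ω * h2
      | linear_combination -h + K.ω ^ 2 * h2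

omit [Fintype F] in
theorem ι_cj (a : Fin 4) : K.ι (cj a) = K.σ (K.ι a) := by
  fin_cases a <;> simp [ι, cj, K.hσ]
  linear_combination -K.ω * K.ω_cube

omit [Fintype F] in
theorem ι_surj (x : F) : ∃ a, K.ι a = x := by
  rcases K.cases x with rfl | rfl | rfl | rfl
  exacts [⟨0, rfl⟩, ⟨1, rfl⟩, ⟨2, rfl⟩, ⟨3, rfl⟩]

theorem ι_injective (hF : Fintype.card F = 2 ^ 2) : Function.Injective K.ι :=
  ((Fintype.bijective_iff_surjective_and_card _).2 ⟨K.ι_surj, by rw [hF]; rfl⟩).1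

omit [Fintype F] in
theorem ι_bt (p : Bool) : K.σ (K.ι (bt p)) = K.ι (bt p) := by
  rw [K.hσ]; cases p <;> simp [bt]

omit [Fintype F] in
theorem exists_bt {x : F} (hx : K.σ x = x) : ∃ p, K.ι (bt p) = x := by
  rw [K.hσ] at hx
  rcases mul_eq_zero.1 (show x * (x - 1) = 0 by linear_combination hx) with h | h
  · exact ⟨false, h.symm⟩
  · exact ⟨true, (sub_eq_zero.1 h).symm⟩

/-- The conjugate transpose. -/
def star (M : Matrix (Fin 3) (Fin 3) F) : Matrix (Fin 3) (Fin 3) F := (M.map K.σ)ᵀ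

omit [Fintype F] in
theorem star_mul (M N : Matrix (Fin 3) (Fin 3) F) : K.star (M * N) = K.star N * K.star M := by
  rw [star, Matrix.map_mul, transpose_mul]; rfl

omit [Fintype F] in
theorem star_star (M : Matrix (Fin 3) (Fin 3) F) : K.star (K.star M) = M := by
  ext i j; exact K.σ_σ _

omit [Fintype F] in
theorem star_one : K.star 1 = 1 := by
  rw [star, Matrix.map_one _ (map_zero _) (map_one _), transpose_one]

/-- The matrix of a code of a unitriangular element. -/
def Am : Uni → Matrix (Fin 3) (Fin 3) F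
  | (a, b, c) => !![1, K.ι a, K.ι b; 0, 1, K.ι c; 0, 0, 1]

/-- The product of codes of unitriangular elements. -/
def umul : Uni → Uni → Uni
  | (a, b, c), (a', b', c') => (s a a', s (s b b') (m a c'), s c c')

/-- The inverse of a code of a unitriangular element. -/
def uinv : Uni → Uni
  | (a, b, c) => (a, s b (m a c), c)

omit [Fintype F] in
theorem Am_mul (g h : Uni) : K.Am g * K.Am h = K.Am (umul g h) := by
  obtain ⟨a, b, c⟩ := g
  obtain ⟨a', b', c'⟩ := h
  ext i j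
  fin_cases i <;> fin_cases j <;> simp [Am, umul, Matrix.mul_apply, Fin.sum_univ_three, K.ι_s, K.ι_m] <;> ring

omit [Fintype F] in
theorem Am_one : K.Am (0, 0, 0) = 1 := by
  ext i j
  fin_cases i <;> fin_cases j <;> simp [Am]

omit [Fintype F] in
theorem Am_inv (g : Uni) : K.Am g * K.Am (uinv g) = 1 := by
  rw [K.Am_mul, ← K.Am_one]
  congr 1
  obtain ⟨a, b, c⟩ := g
  show (s a a, s (s b (s b (m a c))) (m a c), s c c) = _
  revert a b c
  decide +kernel

omit [Fintype F] in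
theorem Am_inv' (g : Uni) : K.Am (uinv g) * K.Am g = 1 := mul_eq_one_comm.1 (K.Am_inv g)

omit [Fintype F] in
theorem Am_det (g : Uni) : (K.Am g).det = 1 := by
  obtain ⟨a, b, c⟩ := g
  simp [Am, Matrix.det_fin_three]

/-- The matrix of a code of a Hermitian form. -/
def Xm : Her → Matrix (Fin 3) (Fin 3) F
  | (p, q, r, x, y, z) =>
    !![K.ι (bt p), K.ι x, K.ι y; K.σ (K.ι x), K.ι (bt q), K.ι z; K.σ (K.ι y), K.σ (K.ι z), K.ι (bt r)]

omit [Fintype F] in
theorem Xm_star (X : Her) : K.star (K.Xm X) = K.Xm X := by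
  obtain ⟨p, q, r, x, y, z⟩ := X
  ext i j
  fin_cases i <;> fin_cases j <;> simp [Xm, star, K.ι_bt, K.σ_σ]

omit [Fintype F] in
theorem exists_Xm {M : Matrix (Fin 3) (Fin 3) F} (hM : K.star M = M) : ∃ X, K.Xm X = M := by
  have h : ∀ i j, K.σ (M j i) = M i j := fun i j => congrFun (congrFun hM i) j
  obtain ⟨p, hp⟩ := K.exists_bt (h 0 0)
  obtain ⟨q, hq⟩ := K.exists_bt (h 1 1)
  obtain ⟨r, hr⟩ := K.exists_bt (h 2 2)
  obtain ⟨x, hx⟩ := K.ι_surj (M 0 1)
  obtain ⟨y, hy⟩ := K.ι_surj (M 0 2)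
  obtain ⟨z, hz⟩ := K.ι_surj (M 1 2)
  refine ⟨(p, q, r, x, y, z), ?_⟩
  ext i j
  fin_cases i <;> fin_cases j <;> simp [Xm, hp, hq, hr, hx, hy, hz, h]

theorem Xm_injective (hF : Fintype.card F = 2 ^ 2) : Function.Injective K.Xm := by
  rintro ⟨p, q, r, x, y, z⟩ ⟨p', q', r', x', y', z'⟩ h
  have e : ∀ i j, (K.Xm (p, q, r, x, y, z)) i j = (K.Xm (p', q', r', x', y', z')) i j := fun i j => by rw [h]
  have hb : ∀ {u v : Bool}, K.ι (bt u) = K.ι (bt v) → u = v := fun {u v} he => by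
    have := K.ι_injective hF he
    revert this
    cases u <;> cases v <;> simp [bt]
  rw [hb (e 0 0), hb (e 1 1), hb (e 2 2), K.ι_injective hF (e 0 1), K.ι_injective hF (e 0 2),
    K.ι_injective hF (e 1 2)]

theorem Am_injective (hF : Fintype.card F = 2 ^ 2) : Function.Injective K.Am := by
  rintro ⟨a, b, c⟩ ⟨a', b', c'⟩ h
  have e : ∀ i j, (K.Am (a, b, c)) i j = (K.Am (a', b', c')) i j := fun i j => by rw [h]
  rw [K.ι_injective hF (e 0 1), K.ι_injective hF (e 0 2), K.ι_injective hF (e 1 2)]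

/-- A matrix from six entries of a Hermitian code. -/
def mat6 : Fin 4 × Fin 4 × Fin 4 × Fin 4 × Fin 4 × Fin 4 → Matrix (Fin 3) (Fin 3) F
  | (e11, e12, e13, e22, e23, e33) =>
    !![K.ι e11, K.ι e12, K.ι e13; K.σ (K.ι e12), K.ι e22, K.ι e23; K.σ (K.ι e13), K.σ (K.ι e23), K.ι e33]

omit [Fintype F] in
theorem mat6_ent (X : Her) : K.mat6 (ent X) = K.Xm X := by
  obtain ⟨p, q, r, x, y, z⟩ := X
  rfl

omit [Fintype F] in
theorem congr_eq (g : Uni) (X : Her) : K.Am g * K.Xm X * K.star (K.Am g) = K.mat6 (congr g X) := by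
  obtain ⟨a, b, c⟩ := g
  obtain ⟨p, q, r, x, y, z⟩ := X
  ext i j
  fin_cases i <;> fin_cases j <;>
    simp [Am, Xm, mat6, congr, star, Matrix.mul_apply, Fin.sum_univ_three, K.ι_s, K.ι_m, K.ι_cj, K.σ_σ,
      K.ι_bt] <;>
    ring

theorem fixed_iff (hF : Fintype.card F = 2 ^ 2) (g : Uni) (X : Her) :
    K.Am g * K.Xm X * K.star (K.Am g) = K.Xm X ↔ X ∈ fixed g := by
  rw [fixed, Finset.mem_filter, K.congr_eq, ← K.mat6_ent]
  refine ⟨fun h => ⟨Finset.mem_univ _, ?_⟩, fun h => by rw [h.2]⟩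
  have e : ∀ i j, (K.mat6 (congr g X)) i j = (K.mat6 (ent X)) i j := fun i j => by rw [h]
  refine Prod.ext (K.ι_injective hF (e 0 0)) (Prod.ext (K.ι_injective hF (e 0 1))
    (Prod.ext (K.ι_injective hF (e 0 2)) (Prod.ext (K.ι_injective hF (e 1 1))
      (Prod.ext (K.ι_injective hF (e 1 2)) (K.ι_injective hF (e 2 2))))))

/-! ### The matrices of degree six -/

/-- The hyperbolic basis. -/
def P : Matrix (Fin 3 ⊕ Fin 3) (Fin 3 ⊕ Fin 3) F := fromBlocks 1 (K.ω • 1) 1 (K.ω ^ 2 • 1)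

/-- Its inverse. -/
def P' : Matrix (Fin 3 ⊕ Fin 3) (Fin 3 ⊕ Fin 3) F := fromBlocks (K.ω ^ 2 • 1) (K.ω • 1) 1 1

omit [Fintype F] in
theorem P_mul : K.P * K.P' = 1 := by
  have h1 : K.ω ^ 2 + K.ω = 1 := by linear_combination K.hω - K.two
  have h2 : K.ω + K.ω = 0 := by linear_combination K.ω * K.two
  have h3 : K.ω ^ 2 + K.ω ^ 2 = 0 := by linear_combination K.ω ^ 2 * K.two
  rw [P, P', fromBlocks_multiply, ← fromBlocks_one]
  simp only [mul_one, one_mul, ← add_smul, h2, h3, one_smul, zero_smul]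
  rw [h1, one_smul]
  try simp [add_comm K.ω (K.ω ^ 2), h1]

omit [Fintype F] in
theorem P'_mul : K.P' * K.P = 1 := mul_eq_one_comm.1 K.P_mul

/-- The form in the hyperbolic basis. -/
def J {F : Type} [Field F] : Matrix (Fin 3 ⊕ Fin 3) (Fin 3 ⊕ Fin 3) F := fromBlocks 0 1 1 0

omit [Fintype F] in
theorem P_gram : K.Pᵀ * K.P.map K.σ = J := by
  have h0 : (1 : F) + 1 = 0 := by linear_combination K.two
  have h1 : K.σ K.ω + K.σ (K.ω ^ 2) = 1 := by
    rw [← map_add, show K.ω + K.ω ^ 2 = 1 by linear_combination K.hω - K.two, map_one]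
  have h2 : K.ω + K.ω ^ 2 = 1 := by linear_combination K.hω - K.two
  have h3 : K.ω * K.σ K.ω + K.ω ^ 2 * K.σ (K.ω ^ 2) = 0 := by
    rw [K.hσ, K.hσ]; linear_combination (1 + K.ω ^ 3 + 1) * K.ω_cube + K.two
  rw [P, Coord.J, fromBlocks_transpose, fromBlocks_map, fromBlocks_multiply]
  simp only [transpose_one, transpose_smul, Matrix.map_one _ (map_zero K.σ) (map_one K.σ),
    Matrix.map_smul' _ _ _ (map_mul K.σ), one_mul, mul_one, Matrix.smul_mul, smul_smul, ← add_smul, h0, h1, h2, h3,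
    zero_smul, one_smul]
  rw [show (1 : Matrix (Fin 3) (Fin 3) F) + 1 = 0 by rw [← one_smul F (1 : Matrix (Fin 3) (Fin 3) F), ← add_smul, h0, zero_smul]]

/-- The matrix of degree six of a matrix in the hyperbolic basis. -/
def φ (M : Matrix (Fin 3 ⊕ Fin 3) (Fin 3 ⊕ Fin 3) F) : Matrix (Fin 6) (Fin 6) F :=
  Matrix.reindexAlgEquiv F F finSumFinEquiv (K.P * M * K.P')

omit [Fintype F] in
theorem φ_mul (M N : Matrix (Fin 3 ⊕ Fin 3) (Fin 3 ⊕ Fin 3) F) : K.φ M * K.φ N = K.φ (M * N) := by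
  simp only [φ, ← map_mul]
  congr 1
  calc K.P * M * K.P' * (K.P * N * K.P') = K.P * M * (K.P' * K.P) * N * K.P' := by simp only [mul_assoc]
    _ = _ := by rw [K.P'_mul, mul_one, mul_assoc K.P]

omit [Fintype F] in
theorem φ_one : K.φ 1 = 1 := by rw [φ, mul_one, K.P_mul, map_one]

omit [Fintype F] in
theorem φ_injective : Function.Injective K.φ := fun M N h => by
  have h1 := (Matrix.reindexAlgEquiv F F finSumFinEquiv).injective h
  calc M = K.P' * K.P * M * (K.P' * K.P) := by rw [K.P'_mul, one_mul, mul_one]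
    _ = K.P' * (K.P * M * K.P') * K.P := by simp only [mul_assoc]
    _ = K.P' * (K.P * N * K.P') * K.P := by rw [h1]
    _ = K.P' * K.P * N * (K.P' * K.P) := by simp only [mul_assoc]
    _ = N := by rw [K.P'_mul, one_mul, mul_one]

omit [Fintype F] in
theorem φ_det (M : Matrix (Fin 3 ⊕ Fin 3) (Fin 3 ⊕ Fin 3) F) : (K.φ M).det = M.det := by
  rw [φ, Matrix.det_reindexAlgEquiv, det_mul, det_mul, mul_comm K.P.det, mul_assoc, ← det_mul, K.P_mul,
    det_one, mul_one]

omit [Fintype F] in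
/-- Isometries in the hyperbolic basis give isometries. -/
theorem φ_form {M : Matrix (Fin 3 ⊕ Fin 3) (Fin 3 ⊕ Fin 3) F} (hM : Mᵀ * J * M.map K.σ = J) (u v : Fin 6 → F) :
    hermForm 6 F 2 (K.φ M *ᵥ u) (K.φ M *ᵥ v) = hermForm 6 F 2 u v := by
  have key : (K.φ M)ᵀ * (K.φ M).map K.σ = 1 := by
    rw [φ, Matrix.reindexAlgEquiv_apply, Matrix.transpose_reindex, Matrix.reindex_apply, Matrix.reindex_apply,
      ← Matrix.submatrix_map, Matrix.submatrix_mul_equiv, transpose_mul, transpose_mul, Matrix.map_mul,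
      Matrix.map_mul]
    have hP : K.P'ᵀ * J * K.P'.map K.σ = 1 := by
      rw [← K.P_gram, ← mul_assoc, ← transpose_mul, K.P_mul, transpose_one, one_mul, ← Matrix.map_mul, K.P_mul,
        Matrix.map_one _ (map_zero _) (map_one _)]
    rw [show K.P'ᵀ * (Mᵀ * K.Pᵀ) * (K.P.map K.σ * M.map K.σ * K.P'.map K.σ) =
        K.P'ᵀ * (Mᵀ * (K.Pᵀ * K.P.map K.σ) * M.map K.σ) * K.P'.map K.σ by simp only [mul_assoc],
      K.P_gram, hM, hP, Matrix.submatrix_one_equiv]
  have hd : ∀ a b : Fin 6 → F, hermForm 6 F 2 a b = a ⬝ᵥ fun i => K.σ (b i) := fun a b => by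
    simp only [hermForm, dotProduct, K.hσ]
  have hmv : (fun i => K.σ ((K.φ M *ᵥ v) i)) = (K.φ M).map K.σ *ᵥ fun i => K.σ (v i) := by
    funext i
    exact RingHom.map_mulVec (K.σ : F →+* F) _ _ i
  rw [hd, hd, hmv, dotProduct_mulVec, ← mulVec_transpose, mulVec_transpose, vecMul_mulVec, ← dotProduct_mulVec]
  simp [key]

/-- The element of `SU₆(2)` of an isometry of determinant one in the hyperbolic basis. -/
def mkEl (M : Matrix (Fin 3 ⊕ Fin 3) (Fin 3 ⊕ Fin 3) F) (hd : M.det = 1) (hM : Mᵀ * J * M.map K.σ = J) :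
    Cfsg.SU 6 F 2 := ⟨⟨K.φ M, by rw [K.φ_det, hd]⟩, K.φ_form hM⟩

/-- The blocks of an element. -/
def blocks (g : Uni) (X : Her) : Matrix (Fin 3 ⊕ Fin 3) (Fin 3 ⊕ Fin 3) F :=
  fromBlocks (K.Am g) (K.Am g * K.Xm X) 0 (K.star (K.Am (uinv g)))

omit [Fintype F] in
theorem blocks_isometry (g : Uni) (X : Her) : (K.blocks g X)ᵀ * J * (K.blocks g X).map K.σ = J := by
  have e1 : (K.star (K.Am (uinv g))).map K.σ = (K.Am (uinv g))ᵀ := by
    ext i j; exact K.σ_σ _
  have e2 : (K.Am g)ᵀ * (K.Am (uinv g))ᵀ = 1 := by rw [← transpose_mul, K.Am_inv', transpose_one]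
  have e3 : (K.star (K.Am (uinv g)))ᵀ * (K.Am g).map K.σ = 1 := by
    rw [star, transpose_transpose, ← Matrix.map_mul, K.Am_inv', Matrix.map_one _ (map_zero _) (map_one _)]
  have e4 : (K.Xm X)ᵀ = (K.Xm X).map K.σ := by
    conv_lhs => rw [← K.Xm_star X]
    rw [star, transpose_transpose]
  have h2 : ∀ M : Matrix (Fin 3) (Fin 3) F, M + M = 0 := fun M => by
    ext i j
    show M i j + M i j = 0
    linear_combination M i j * K.two
  rw [blocks, J, fromBlocks_transpose, fromBlocks_map, fromBlocks_multiply, fromBlocks_multiply]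
  simp only [transpose_zero, Matrix.map_zero _ (map_zero K.σ), mul_zero, zero_mul, add_zero, zero_add, mul_one,
    Matrix.map_mul, transpose_mul, mul_assoc]
  rw [e1, e2, e3, ← mul_assoc (K.star (K.Am (uinv g)))ᵀ, e3, e4]
  simp only [mul_assoc, e2, mul_one, one_mul, h2]

omit [Fintype F] in
theorem blocks_det (g : Uni) (X : Her) : (K.blocks g X).det = 1 := by
  rw [blocks, det_fromBlocks_zero₂₁, K.Am_det, one_mul, star, det_transpose]
  rw [← RingEquiv.mapMatrix_apply, ← RingEquiv.map_det, K.Am_det, map_one]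

/-- The element of a pair of codes. -/
def el (g : Uni) (X : Her) : Cfsg.SU 6 F 2 := K.mkEl (K.blocks g X) (K.blocks_det g X) (K.blocks_isometry g X)

omit [Fintype F] in
theorem el_mul_coe (g h : Uni) (X Y : Her) : (((K.el g X * K.el h Y : Cfsg.SU 6 F 2) :
    SpecialLinearGroup (Fin 6) F) : Matrix (Fin 6) (Fin 6) F) = K.φ (K.blocks g X * K.blocks h Y) :=
  K.φ_mul _ _

omit [Fintype F] in
theorem el_ext {T : Cfsg.SU 6 F 2} {g : Uni} {X : Her}
    (h : ((T : SpecialLinearGroup (Fin 6) F) : Matrix (Fin 6) (Fin 6) F) = K.φ (K.blocks g X)) : T = K.el g X :=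
  Subtype.ext (Subtype.ext h)

omit [Fintype F] in
theorem Xm_zero : K.Xm (false, false, false, 0, 0, 0) = 0 := by
  ext i j
  fin_cases i <;> fin_cases j <;> simp [Xm, bt]

omit [Fintype F] in
theorem el_one : K.el (0, 0, 0) (false, false, false, 0, 0, 0) = 1 := by
  symm
  refine K.el_ext ?_
  rw [blocks, show uinv (0, 0, 0) = (0, 0, 0) by decide, K.Am_one, K.Xm_zero, mul_zero, K.star_one, fromBlocks_one,
    K.φ_one]
  rfl

omit [Fintype F] in
theorem uinv_umul (g h : Uni) : uinv (umul g h) = umul (uinv h) (uinv g) := by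
  revert g h
  decide +kernel

omit [Fintype F] in
/-- The product of two elements. -/
theorem exists_el_mul (g h : Uni) (X Y : Her) : ∃ Z, K.el g X * K.el h Y = K.el (umul g h) Z ∧
    K.Xm Z = K.Xm Y + K.Am (uinv h) * K.Xm X * K.star (K.Am (uinv h)) := by
  obtain ⟨Z, hZ⟩ := K.exists_Xm (M := K.Xm Y + K.Am (uinv h) * K.Xm X * K.star (K.Am (uinv h))) (by
    have hadd : ∀ M N : Matrix (Fin 3) (Fin 3) F, K.star (M + N) = K.star M + K.star N := fun M N => by
      ext i j; exact map_add K.σ _ _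
    rw [hadd, K.star_mul, K.star_mul, K.star_star, K.Xm_star, K.Xm_star, mul_assoc])
  refine ⟨Z, K.el_ext ?_, hZ⟩
  rw [K.el_mul_coe, blocks, blocks, blocks, fromBlocks_multiply]
  congr 1
  simp only [mul_zero, zero_mul, add_zero, zero_add]
  rw [uinv_umul, ← K.Am_mul (uinv h), ← K.Am_mul g, K.star_mul, hZ, mul_add]
  congr 1
  rw [mul_assoc (K.Am g) (K.Am h) (K.Xm Y),
    show K.Am g * K.Am h * (K.Am (uinv h) * K.Xm X * K.star (K.Am (uinv h))) =
      K.Am g * (K.Am h * K.Am (uinv h)) * K.Xm X * K.star (K.Am (uinv h)) by simp only [mul_assoc],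
    K.Am_inv, mul_one]

theorem el_injective (hF : Fintype.card F = 2 ^ 2) {g h : Uni} {X Y : Her}
    (e : psuMk (K.el g X) = psuMk (K.el h Y)) : g = h ∧ X = Y := by
  obtain ⟨σ, hσ⟩ := exists_sigma hF
  obtain ⟨c, hc⟩ := PSUAut.exists_scalar hF hσ (by norm_num) e
  have hcM : K.φ (K.blocks h Y) = c • K.φ (K.blocks g X) := Matrix.ext_of_mulVec_single fun i => by
    rw [Matrix.smul_mulVec]; exact hc (Pi.single i 1)
  have hb : K.blocks h Y = c • K.blocks g X := K.φ_injective (by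
    rw [hcM]
    simp only [φ, Matrix.mul_smul, Matrix.smul_mul, map_smul])
  have h00 : (1 : F) = c * 1 := by
    have := congrFun (congrFun hb (Sum.inl 0)) (Sum.inl 0)
    obtain ⟨a, b, d⟩ := g
    obtain ⟨a', b', d'⟩ := h
    simpa [blocks, Am] using this
  rw [mul_one] at h00
  rw [← h00, one_smul, blocks, blocks] at hb
  obtain ⟨e1, e2, -, -⟩ := fromBlocks_inj.1 hb
  have hgh := K.Am_injective hF e1
  subst hgh
  refine ⟨rfl, K.Xm_injective hF ?_⟩
  have := congrArg (fun M => K.Am (uinv h) * M) e2.symm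
  simpa only [← mul_assoc, K.Am_inv', one_mul] using this

end Coord

end CfsgLib.U6.Plane
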