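import Cfsg.Agent.Lib.ThreeTransp.CoverSign.Fusion

/-!
# Primes dividing an orbit in the normaliser of an elementary abelian 2-group
-/

set_option autoImplicit false

namespace CfsgLib.ElemFusion

/-- A prime dividing the number of conjugates of `x` under the normaliser of `A`, of order `2ⁿ`. -/
theorem prime_dvd_orbit_pow {G : Type*} [Group G] [Finite G] {n : ℕ} {A : Subgroup G} (hA : IsElem (2 ^ n) A)
    {x : G} (hx : x ∈ A) {p : ℕ} (hp : p.Prime)
    (hd : p ∣ {y | ∃ m ∈ Subgroup.normalizer (A : Set G), m * x * m⁻¹ = y}.ncard) :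
    ∃ k < n, p ∣ 2 ^ n - 2 ^ k := by
  haveI := Fact.mk hp
  let f := MulDistribMulAction.toMulAut (↥(Subgroup.normalizer (A : Set G))) A
  have horb : Nat.card (MulAction.orbit (↥(Subgroup.normalizer (A : Set G))) (⟨x, hx⟩ : A)) =
      {y | ∃ m ∈ Subgroup.normalizer (A : Set G), m * x * m⁻¹ = y}.ncard := by
    rw [Nat.card_coe_set_eq, ← Set.ncard_image_of_injective _ Subtype.val_injective]
    congr 1
    ext y
    constructor
    · rintro ⟨_, ⟨⟨m, hm⟩, rfl⟩, rfl⟩
      exact ⟨m, hm, rfl⟩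
    · rintro ⟨m, hm, rfl⟩
      exact ⟨_, ⟨⟨m, hm⟩, rfl⟩, rfl⟩
  rw [← horb, Nat.card_coe_set_eq, ← MulAction.index_stabilizer] at hd
  have hK : p ∣ Nat.card f.range := by
    rw [← Subgroup.index_ker]
    refine dvd_trans hd (Subgroup.index_dvd_of_le fun m hm => ?_)
    exact MulEquiv.congr_fun (show f m = 1 from hm) _
  obtain ⟨σ, hσ⟩ := exists_prime_orderOf_dvd_card' (G := f.range) p hK
  set s : MulAut A := (σ : MulAut A) with hs
  have hs1 : s ≠ 1 := fun h => by
    rw [show σ = 1 from Subtype.ext h, orderOf_one] at hσ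
    exact hp.one_lt.ne hσ
  have hos : orderOf s = p := by rw [hs, Subgroup.orderOf_coe, hσ]
  have hpz : IsPGroup p (Subgroup.zpowers s) := IsPGroup.of_card (n := 1) (by rw [Nat.card_zpowers, hos, pow_one])
  have hmod := hpz.card_modEq_card_fixedPoints A
  let Fx : Subgroup A :=
    { carrier := {a | s a = a}
      one_mem' := map_one s
      mul_mem' := fun {a b} (ha : s a = a) (hb : s b = b) => show s (a * b) = a * b by rw [map_mul, ha, hb]
      inv_mem' := fun {a} (ha : s a = a) => show s a⁻¹ = a⁻¹ by rw [map_inv, ha] }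
  have hfix : (MulAction.fixedPoints (Subgroup.zpowers s) A : Set A) = (Fx : Set A) := by
    ext a
    constructor
    · intro h
      exact h ⟨s, Subgroup.mem_zpowers s⟩
    · rintro (h : s a = a) ⟨t, ht⟩
      have hst : Subgroup.zpowers s ≤ MulAction.stabilizer (MulAut A) a := Subgroup.zpowers_le.2 h
      exact hst ht
  have hcF : Nat.card (MulAction.fixedPoints (Subgroup.zpowers s) A) = Nat.card Fx := by
    rw [Nat.card_coe_set_eq, hfix, ← Nat.card_coe_set_eq]; rfl
  obtain ⟨k, hk, hkc⟩ := (Nat.dvd_prime_pow Nat.prime_two).1 (hA.card ▸ Subgroup.card_subgroup_dvd_card Fx)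
  have hkn : k ≠ n := by
    rintro rfl
    have : Fx = ⊤ := Subgroup.eq_top_of_card_eq _ (by rw [hkc, hA.card])
    exact hs1 (MulEquiv.ext fun a => show a ∈ Fx from this ▸ Subgroup.mem_top a)
  refine ⟨k, lt_of_le_of_ne hk hkn, ?_⟩
  rw [hcF, hkc, hA.card] at hmod
  exact (Nat.modEq_iff_dvd' (Nat.pow_le_pow_right two_pos hk)).1 hmod.symm

end CfsgLib.ElemFusion
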