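import Cfsg.Agent.Lib.ThreeTransp.U6Plane.Model
import Cfsg.Agent.Lib.ThreeTransp.CoverSign.Fusion
import Cfsg.Agent.Lib.Classical.HermOrder

/-!
# A Sylow 2-subgroup of `PSU₆(2)` and its elementary abelian subgroup of order `2⁹`
-/

set_option autoImplicit false

namespace CfsgLib.U6.Plane

open Matrix Cfsg
open CfsgLib.UnitarySpec (psuMk)
open CfsgLib.ElemFusion

variable {F : Type} [Field F] [Fintype F]

local notation "PSU6" => (Cfsg.PSU 6 F 2)

theorem card_psu6 (hF : Fintype.card F = 2 ^ 2) : Nat.card PSU6 = 2 ^ 15 * 280665 := by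
  have hsu := CfsgLib.Classical.card_su (n := 6) (F := F) (q := 2) hF (by norm_num)
  have hz := CfsgLib.Classical.card_center_su (n := 6) (F := F) (q := 2) hF (by norm_num)
  have h := Subgroup.card_eq_card_quotient_mul_card_subgroup (Subgroup.center (Cfsg.SU 6 F 2))
  rw [hz] at h
  norm_num [CfsgLib.Classical.unitaryOrder, Finset.prod_range_succ] at hsu
  rw [h] at hsu
  norm_num [Nat.even_iff] at hsu
  show Nat.card (Cfsg.SU 6 F 2 ⧸ Subgroup.center (Cfsg.SU 6 F 2)) = _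
  omega

abbrev g0 : Uni := (0, 0, 0)

abbrev X0 : Her := (false, false, false, 0, 0, 0)

theorem umul_g0 : ∀ g, Coord.umul g g0 = g ∧ Coord.umul g0 g = g := by decide +kernel

theorem uinv_eq : ∀ g, Coord.umul g g = g0 → Coord.uinv g = g := by decide +kernel

/-- Commuting involutions lie in a common maximal elementary abelian subgroup. -/
theorem side : ∀ g : Uni, Coord.umul g g = g0 → g.1 ≠ 0 → ∀ h, Coord.umul h h = g0 →
    Coord.umul g h = Coord.umul h g → h.2.2 = 0 := by decide +kernel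

theorem card_sides : (Finset.univ.filter fun g : Uni => g.2.2 = 0).card = 16 ∧
    (Finset.univ.filter fun g : Uni => g.1 = 0).card = 16 := by decide +kernel

namespace Coord

variable (K : Coord F)

/-- The image of an element. -/
def t (g : Uni) (X : Her) : PSU6 := psuMk (K.el g X)

omit [Fintype F] in
theorem exists_t_mul (g h : Uni) (X Y : Her) : ∃ Z, K.t g X * K.t h Y = K.t (umul g h) Z ∧
    K.Xm Z = K.Xm Y + K.Am (uinv h) * K.Xm X * K.star (K.Am (uinv h)) := by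
  obtain ⟨Z, hZ, hZ'⟩ := K.exists_el_mul g h X Y
  exact ⟨Z, by rw [t, t, t, ← map_mul, hZ], hZ'⟩

omit [Fintype F] in
theorem t_one : K.t g0 X0 = 1 := by rw [t, g0, X0, K.el_one, map_one]

variable (hF : Fintype.card F = 2 ^ 2)
include hF

theorem t_mul_g0 (g : Uni) (X : Her) : K.t g X0 * K.t g0 X = K.t g X := by
  obtain ⟨Z, hZ, hZ'⟩ := K.exists_t_mul g g0 X0 X
  rw [K.Xm_zero, mul_zero, zero_mul, add_zero] at hZ'
  rw [hZ, (umul_g0 g).1, K.Xm_injective hF hZ']

theorem t_mul_uni (g h : Uni) : K.t g X0 * K.t h X0 = K.t (umul g h) X0 := by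
  obtain ⟨Z, hZ, hZ'⟩ := K.exists_t_mul g h X0 X0
  rw [hZ, K.Xm_injective hF (hZ'.trans (show _ = K.Xm X0 by rw [K.Xm_zero, mul_zero, zero_mul, add_zero]))]

/-- The plane group. -/
def planeGroup : Subgroup PSU6 where
  carrier := Set.range fun X => K.t g0 X
  one_mem' := ⟨X0, K.t_one⟩
  mul_mem' := by
    rintro _ _ ⟨X, rfl⟩ ⟨Y, rfl⟩
    obtain ⟨Z, hZ, -⟩ := K.exists_t_mul g0 g0 X Y
    exact ⟨Z, by rw [hZ, (umul_g0 g0).1]⟩
  inv_mem' := by
    rintro _ ⟨X, rfl⟩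
    refine ⟨X, (inv_eq_of_mul_eq_one_right ?_).symm⟩
    obtain ⟨Z, hZ, hZ'⟩ := K.exists_t_mul g0 g0 X X
    rw [hZ, (umul_g0 g0).1, ← K.t_one, K.Xm_injective hF (hZ'.trans ?_)]
    rw [show Coord.uinv g0 = g0 by decide, K.Am_one, K.star_one, one_mul, mul_one, K.Xm_zero]
    ext i j
    show K.Xm X i j + K.Xm X i j = 0
    linear_combination K.Xm X i j * K.two

theorem isElem_plane : IsElem (2 ^ 9) (K.planeGroup hF) := by
  refine ⟨?_, ?_, ?_⟩
  · rintro _ ⟨X, rfl⟩ _ ⟨Y, rfl⟩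
    obtain ⟨Z, hZ, hZ'⟩ := K.exists_t_mul g0 g0 X Y
    obtain ⟨W, hW, hW'⟩ := K.exists_t_mul g0 g0 Y X
    show K.t g0 X * K.t g0 Y = K.t g0 Y * K.t g0 X
    rw [hZ, hW, show Coord.uinv g0 = g0 by decide, K.Am_one, K.star_one, one_mul, mul_one] at *
    rw [K.Xm_injective hF (hZ'.trans ((add_comm _ _).trans hW'.symm))]
  · rintro _ ⟨X, rfl⟩
    obtain ⟨Z, hZ, hZ'⟩ := K.exists_t_mul g0 g0 X X
    show K.t g0 X * K.t g0 X = 1
    rw [hZ, (umul_g0 g0).1, ← K.t_one, K.Xm_injective hF (hZ'.trans ?_)]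
    rw [show Coord.uinv g0 = g0 by decide, K.Am_one, K.star_one, one_mul, mul_one, K.Xm_zero]
    ext i j
    show K.Xm X i j + K.Xm X i j = 0
    linear_combination K.Xm X i j * K.two
  · rw [← SetLike.coe_sort_coe, show ((K.planeGroup hF : Subgroup PSU6) : Set PSU6) = Set.range fun X => K.t g0 X
      from rfl, Nat.card_range_of_injective fun X Y (e : K.t g0 X = K.t g0 Y) => (K.el_injective hF e).2, Nat.card_eq_fintype_card]
    simp [Fintype.card_prod]

/-- The Sylow subgroup. -/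
def sylowGroup : Subgroup PSU6 :=
  letI S : Submonoid PSU6 :=
    { carrier := Set.range fun p : Uni × Her => K.t p.1 p.2
      one_mem' := ⟨(g0, X0), K.t_one⟩
      mul_mem' := by
        rintro _ _ ⟨⟨g, X⟩, rfl⟩ ⟨⟨h, Y⟩, rfl⟩
        obtain ⟨Z, hZ, -⟩ := K.exists_t_mul g h X Y
        exact ⟨(_, Z), hZ.symm⟩ }
  { S with
    inv_mem' := fun {x} hx => by
      exact (Submonoid.powers_le.2 hx) (((isOfFinOrder_of_finite x).mem_powers_iff_mem_zpowers).2
        (Subgroup.inv_mem _ (Subgroup.mem_zpowers x))) }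

omit hF in
theorem mem_sylowGroup {x : PSU6} : x ∈ K.sylowGroup ↔ ∃ g X, K.t g X = x :=
  ⟨fun ⟨⟨g, X⟩, h⟩ => ⟨g, X, h⟩, fun ⟨g, X, h⟩ => ⟨⟨g, X⟩, h⟩⟩

theorem card_sylowGroup : Nat.card (K.sylowGroup) = 2 ^ 15 := by
  rw [← SetLike.coe_sort_coe, show ((K.sylowGroup : Subgroup PSU6) : Set PSU6) =
      Set.range fun p : Uni × Her => K.t p.1 p.2 from rfl,
    Nat.card_range_of_injective (f := fun p : Uni × Her => K.t p.1 p.2)
      fun p q (e : K.t p.1 p.2 = K.t q.1 q.2) => Prod.ext (K.el_injective hF e).1 (K.el_injective hF e).2,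
    Nat.card_eq_fintype_card]
  simp [Fintype.card_prod]

theorem exists_sylow : ∃ P : Sylow 2 PSU6, (P : Subgroup PSU6) = K.sylowGroup := by
  haveI : Fact (Nat.Prime 2) := ⟨Nat.prime_two⟩
  haveI : Finite PSU6 := Nat.finite_of_card_ne_zero (by rw [card_psu6 hF]; norm_num)
  refine ⟨Sylow.ofCard (K.sylowGroup) ?_, Sylow.coe_ofCard _ _⟩
  rw [K.card_sylowGroup hF, card_psu6 hF, Nat.factorization_mul (by norm_num) (by norm_num),
    Finsupp.add_apply, Nat.Prime.factorization_pow Nat.prime_two,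
    Nat.factorization_eq_zero_of_not_dvd (by norm_num : ¬ 2 ∣ 280665)]
  simp

/-- The plane group is the only elementary abelian subgroup of its order in the Sylow subgroup. -/
theorem elem_eq {A : Subgroup PSU6} (hA : IsElem (2 ^ 9) A) (hle : A ≤ K.sylowGroup) :
    A = K.planeGroup hF := by
  classical
  obtain ⟨L, memL⟩ : ∃ L : Finset Uni, ∀ g, g ∈ L ↔ ∃ X, K.t g X ∈ A :=
    ⟨Finset.univ.filter fun g => ∃ X, K.t g X ∈ A, fun g => by simp⟩
  obtain ⟨Y, memY⟩ : ∃ Y : Finset Her, ∀ X, X ∈ Y ↔ K.t g0 X ∈ A :=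
    ⟨Finset.univ.filter fun X => K.t g0 X ∈ A, fun X => by simp⟩
  have hrel : ∀ {g h : Uni} {X W : Her}, K.t g X ∈ A → K.t h W ∈ A → umul g g = g0 ∧ umul g h = umul h g := by
    intro g h X W hg hh
    obtain ⟨Z, hZ, -⟩ := K.exists_t_mul g g X X
    obtain ⟨Z₁, hZ₁, -⟩ := K.exists_t_mul g h X W
    obtain ⟨Z₂, hZ₂, -⟩ := K.exists_t_mul h g W X
    rw [hA.sq _ hg, ← K.t_one] at hZ
    have he := hA.comm _ hg _ hh
    rw [Commute, SemiconjBy, hZ₁, hZ₂] at he
    exact ⟨(K.el_injective hF hZ).1.symm, (K.el_injective hF he).1⟩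
  have hfix : ∀ g ∈ L, ∀ W ∈ Y, W ∈ fixed g := by
    intro g hg W hW
    obtain ⟨X, hX⟩ := (memL g).1 hg
    have hW' := (memY W).1 hW
    obtain ⟨Z₁, hZ₁, hZ₁'⟩ := K.exists_t_mul g g0 X W
    obtain ⟨Z₂, hZ₂, hZ₂'⟩ := K.exists_t_mul g0 g W X
    have he := hA.comm _ hX _ hW'
    rw [Commute, SemiconjBy, hZ₁, hZ₂] at he
    rw [uinv_eq g (hrel hX hX).1] at hZ₂'
    rw [show uinv g0 = g0 by decide, K.Am_one, K.star_one, one_mul, mul_one, (K.el_injective hF he).2,
      hZ₂', add_comm (K.Xm W)] at hZ₁'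
    exact (K.fixed_iff hF g W).1 (add_left_cancel hZ₁')
  have hcount : Nat.card A ≤ L.card * Y.card := by
    obtain ⟨s, mems⟩ : ∃ s : Finset (Uni × Her), ∀ p, p ∈ s ↔ K.t p.1 p.2 ∈ A :=
      ⟨Finset.univ.filter fun p => K.t p.1 p.2 ∈ A, fun p => by
        simp only [Finset.mem_filter, Finset.mem_univ, true_and]⟩
    have hs : Nat.card A ≤ s.card := by
      rw [← SetLike.coe_sort_coe, Nat.card_coe_set_eq]
      have : (A : Set PSU6) = (fun p : Uni × Her => K.t p.1 p.2) '' (s : Set (Uni × Her)) := by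
        ext x
        refine ⟨fun hx => ?_, ?_⟩
        · obtain ⟨g, X, rfl⟩ := (K.mem_sylowGroup).1 (hle hx)
          exact ⟨(g, X), (mems (g, X)).2 hx, rfl⟩
        · rintro ⟨p, hp, rfl⟩
          exact (mems p).1 hp
      rw [this]
      exact (Set.ncard_image_le (Finset.finite_toSet _)).trans (Set.ncard_coe_finset s).le
    refine hs.trans ?_
    rw [mul_comm]
    refine Finset.card_le_mul_card_image_of_maps_to (f := Prod.fst) (fun p hp => ?_) _ fun g _ => ?_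
    · exact (memL p.1).2 ⟨p.2, (mems p).1 hp⟩
    · rcases Finset.eq_empty_or_nonempty (s.filter fun p => p.1 = g) with h0 | ⟨⟨g', X⟩, hp⟩
      · rw [h0]; exact Nat.zero_le _
      simp only [Finset.mem_filter, mems] at hp
      obtain ⟨hX, rfl⟩ := hp
      have hdiff : ∀ W, K.t g' W ∈ A → ∃ U ∈ Y, K.t g' W = K.t g' X * K.t g0 U := by
        intro W hW
        obtain ⟨U, hU, -⟩ := K.exists_t_mul g' g' X W
        rw [(hrel hX hX).1] at hU
        refine ⟨U, (memY U).2 (hU ▸ mul_mem hX hW), ?_⟩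
        rw [← hU, ← mul_assoc, hA.sq _ hX, one_mul]
      choose! u hu hu' using hdiff
      refine Finset.card_le_card_of_injOn (fun p => u p.2) (fun p hp => ?_) fun p hp q hq e => ?_
      · simp only [Finset.coe_filter, mems, Set.mem_setOf_eq] at hp
        exact hu _ (hp.2 ▸ hp.1)
      · simp only [Finset.coe_filter, mems, Set.mem_setOf_eq] at hp hq
        obtain ⟨g₁, W₁⟩ := p
        obtain ⟨g₂, W₂⟩ := q
        obtain ⟨h1, rfl⟩ := hp
        obtain ⟨h2, rfl⟩ := hq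
        have := (hu' W₁ h1).trans ((congrArg (fun U => K.t _ X * K.t g0 U) e).trans (hu' W₂ h2).symm)
        rw [(K.el_injective hF this).2]
  by_cases hL : ∀ g ∈ L, g = g0
  · refine Subgroup.eq_of_le_of_card_ge (fun x hx => ?_) (by rw [(K.isElem_plane hF).card, hA.card])
    obtain ⟨g, X, rfl⟩ := (K.mem_sylowGroup).1 (hle hx)
    exact ⟨X, by rw [hL g ((memL g).2 ⟨X, hx⟩)]⟩
  exfalso
  push Not at hL
  obtain ⟨g, hg, hg0⟩ := hL
  have hY : Y.card ≤ 32 := (Finset.card_le_card (hfix g hg)).trans (fixed_le g hg0)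
  rw [hA.card] at hcount
  have hL16 : 16 ≤ L.card := by
    by_contra h
    have := Nat.mul_le_mul (show L.card ≤ 15 by omega) hY
    omega
  have full : ∀ S : Finset Uni, L ⊆ S → S.card = 16 → ∀ p q, p ∈ S → q ∈ S → (fixed p ∩ fixed q).card ≤ 16 → False := by
    intro S hS hc p q hp hq hpq
    have he : L = S := Finset.eq_of_subset_of_card_le hS (by omega)
    have : Y.card ≤ 16 := le_trans (Finset.card_le_card fun W hW => Finset.mem_inter.2
      ⟨hfix p (he ▸ hp) W hW, hfix q (he ▸ hq) W hW⟩) hpq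
    have := Nat.mul_le_mul (show L.card ≤ 16 by rw [he, hc]) this
    omega
  by_cases ha : ∃ h ∈ L, h.1 ≠ 0
  · obtain ⟨h, hh, ha⟩ := ha
    obtain ⟨X, hX⟩ := (memL h).1 hh
    refine full _ (fun k hk => ?_) card_sides.1 (1, 0, 0) (0, 1, 0) (by simp) (by simp) fixed_pair_top
    obtain ⟨W, hW⟩ := (memL k).1 hk
    exact Finset.mem_filter.2 ⟨Finset.mem_univ _,
      side h (hrel hX hX).1 ha k (hrel hW hW).1 (hrel hX hW).2⟩
  · push Not at ha
    exact full _ (fun k hk => Finset.mem_filter.2 ⟨Finset.mem_univ _, ha k hk⟩) card_sides.2 (0, 0, 1) (0, 1, 0)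
      (by simp) (by simp) fixed_pair_right

end Coord

/-- A 2-subgroup has at most one elementary abelian subgroup of order `2⁹`. -/
theorem uniq_plane (hF : Fintype.card F = 2 ^ 2) : Uniq (2 ^ 9) (⊤ : Subgroup PSU6) := by
  obtain ⟨K⟩ := exists_coord hF
  intro Q hQ _ A A' hA hA' hAQ hA'Q
  haveI : Fact (Nat.Prime 2) := ⟨Nat.prime_two⟩
  haveI : Finite PSU6 := Nat.finite_of_card_ne_zero (by rw [card_psu6 hF]; norm_num)
  obtain ⟨P, hP⟩ := hQ.exists_le_sylow
  obtain ⟨P₀, hP₀⟩ := K.exists_sylow hF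
  obtain ⟨c, rfl⟩ := MulAction.exists_smul_eq PSU6 P₀ P
  refine Subgroup.map_injective (f := (MulAut.conj c⁻¹).toMonoidHom) (MulAut.conj c⁻¹).injective ?_
  have hle : ∀ {B : Subgroup PSU6}, B ≤ Q → B.map (MulAut.conj c⁻¹).toMonoidHom ≤ K.sylowGroup := by
    rintro B hB _ ⟨b, hb, rfl⟩
    obtain ⟨p, hp, rfl⟩ := hP (hB hb)
    rw [← hP₀]
    simpa [mul_assoc] using (show p ∈ (P₀ : Subgroup PSU6) from hp)
  rw [K.elem_eq hF (hA.map (MulAut.conj c⁻¹).injective) (hle hAQ),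
    K.elem_eq hF (hA'.map (MulAut.conj c⁻¹).injective) (hle hA'Q)]

end CfsgLib.U6.Plane
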