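import Cfsg.Agent.Lib.ThreeTransp.U6Plane.Lift
import Cfsg.Agent.Lib.ThreeTransp.U6Plane.Orbit

/-!
# The conjugates of a central involution in the Thompson subgroup of its centraliser, of type `2.U₆(2)`

Of the 27 possible distributions over the three classes the primes of `|GL₁₀(2)|` leave five; three of them
make the conjugates or the non-conjugates a subgroup of impossible order or a square, and the one with a
subgroup of index two is excluded by transfer.
-/

set_option autoImplicit false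

namespace CfsgLib.U6.Plane

open Cfsg CfsgLib.ElemFusion

variable {G : Type*} [Group G] {d : G}
variable {F : Type} [Field F] [Fintype F]

local notation "PSU6" => (Cfsg.PSU 6 F 2)

theorem order_four_code : Coord.umul (1, 0, 1) (1, 0, 1) ≠ g0 := by decide +kernel

/-- The number of conjugates of `d` over an element of the quotient. -/
noncomputable def fib (π : ↥(Subgroup.centralizer ({d} : Set G)) →* PSU6) (e : PSU6) : ℕ :=
  {h : ↥(Subgroup.centralizer ({d} : Set G)) | π h = e ∧ IsConj d (h : G)}.ncard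

variable [Finite G]

omit [Fintype F] in
theorem fib_isConj (π : ↥(Subgroup.centralizer ({d} : Set G)) →* PSU6) (hsurj : Function.Surjective π)
    {e e' : PSU6} (h : IsConj e e') : fib π e' = fib π e := by
  obtain ⟨g, rfl⟩ := isConj_iff.1 h
  obtain ⟨k, rfl⟩ := hsurj g
  symm
  refine Set.ncard_congr (fun h _ => k * h * k⁻¹) (fun h hh => ⟨by rw [map_mul, map_mul, map_inv, hh.1], ?_⟩)
    (fun _ _ _ _ e => by simpa using e) fun h hh => ⟨k⁻¹ * h * k, ⟨by
      rw [map_mul, map_mul, map_inv, hh.1]; group, ?_⟩, by group⟩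
  · exact hh.2.trans (isConj_iff.2 ⟨(k : G), by simp⟩)
  · exact hh.2.trans (isConj_iff.2 ⟨(k : G)⁻¹, by simp⟩)

/-- The Thompson subgroup with the kinds of conjugates of `d` in it: one over each point, no others. -/
theorem thompson_full (K : Coord F) (hF : Fintype.card F = 2 ^ 2) (hd : orderOf d = 2)
    (π : ↥(Subgroup.centralizer ({d} : Set G)) →* PSU6)
    (W : DCover π ⟨d, Subgroup.mem_centralizer_singleton_iff.2 rfl⟩)
    (hperf : commutator ↥(Subgroup.centralizer ({d} : Set G)) = ⊤)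
    (hnwc : ∃ g : G, g * d * g⁻¹ ∈ Subgroup.centralizer ({d} : Set G) ∧ g * d * g⁻¹ ≠ d)
    (P : Sylow 2 ↥(Subgroup.centralizer ({d} : Set G))) (A : Subgroup G)
    (hA : A = (Cfsg.thompsonSubgroupOf 2 (P : Subgroup ↥(Subgroup.centralizer ({d} : Set G)))).map
      (Subgroup.centralizer ({d} : Set G)).subtype) :
    Cfsg.IsElementaryAbelian 2 A ∧ Nat.card A = 2 ^ 10 ∧ Set.ncard {x : G | x ∈ A ∧ IsConj d x} = 22 ∧
      (∀ x ∈ A, ∀ y ∈ A, IsConj d x → IsConj d y → ∃ n ∈ Subgroup.normalizer (A : Set G), n * x * n⁻¹ = y) ∧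
      ∀ Y : Her, Y ≠ X0 → fib π (K.t g0 Y) = if rk Y = 1 then 1 else 0 := by
  classical
  have hdd : d * d = 1 := by rw [← pow_two, ← hd, pow_orderOf_eq_one]
  set z : ↥(Subgroup.centralizer ({d} : Set G)) := ⟨d, Subgroup.mem_centralizer_singleton_iff.2 rfl⟩ with hz
  have hd1 : d ≠ 1 := fun h => by rw [h, orderOf_one] at hd; norm_num at hd
  have hz1 : z ≠ 1 := fun h => hd1 (congrArg Subtype.val h)
  obtain ⟨c, hJ⟩ := W.thompson_eq hF hz1 K P
  rw [hJ] at hA
  have hel0 : IsElem (2 ^ 10) (((K.planeGroup hF).map (MulAut.conj c).toMonoidHom).comap π) := by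
    have := W.isElem_preimage hF hz1 ((K.isElem_plane hF).map (f := (MulAut.conj c).toMonoidHom) (MulAut.conj c).injective)
    norm_num at this ⊢
    exact this
  have hel : IsElem (2 ^ 10) A := hA ▸ hel0.map (Subgroup.centralizer ({d} : Set G)).subtype_injective
  have huC : Uniq (2 ^ 10) (Subgroup.centralizer ({d} : Set G)) := by
    intro R hR hRC A₁ A₂ h1 h2 h1R h2R
    have key := W.uniq_top hF hz1 (R.comap (Subgroup.centralizer ({d} : Set G)).subtype) (hR.comap_of_injective _ (Subgroup.centralizer ({d} : Set G)).subtype_injective) le_top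
      (A₁.comap (Subgroup.centralizer ({d} : Set G)).subtype) (A₂.comap (Subgroup.centralizer ({d} : Set G)).subtype) ?_ ?_ (Subgroup.comap_mono h1R) (Subgroup.comap_mono h2R)
    · rw [← Subgroup.map_comap_eq_self (f := (Subgroup.centralizer ({d} : Set G)).subtype) (H := A₁) (by rw [(Subgroup.centralizer ({d} : Set G)).range_subtype]; exact h1R.trans hRC),
        key, Subgroup.map_comap_eq_self (by rw [(Subgroup.centralizer ({d} : Set G)).range_subtype]; exact h2R.trans hRC)]
    all_goals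
      refine ⟨fun x hx y hy => Subtype.ext ?_, fun x hx => Subtype.ext ?_, ?_⟩
    · exact (h1.comm _ hx _ hy).eq
    · exact h1.sq _ hx
    · rw [← h1.card]; exact Nat.card_congr (Subgroup.subgroupOfEquivOfLe (h1R.trans hRC)).toEquiv
    · exact (h2.comm _ hx _ hy).eq
    · exact h2.sq _ hx
    · rw [← h2.card]; exact Nat.card_congr (Subgroup.subgroupOfEquivOfLe (h2R.trans hRC)).toEquiv
  have htrans : ∀ x ∈ A, ∀ y ∈ A, IsConj d x → IsConj d y →
      ∃ n ∈ Subgroup.normalizer (A : Set G), n * x * n⁻¹ = y := by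
    intro x hx y hy hdx hdy
    obtain ⟨g, hg⟩ := isConj_iff.1 (hdx.symm.trans hdy)
    refine exists_normalizer hel hx hy hg ?_
    obtain ⟨k, rfl⟩ := isConj_iff.1 hdy
    have : Subgroup.centralizer ({k * d * k⁻¹} : Set G) = (Subgroup.centralizer ({d} : Set G)).map (MulAut.conj k).toMonoidHom := by
      ext w
      rw [Subgroup.mem_map_equiv, Subgroup.mem_centralizer_singleton_iff, Subgroup.mem_centralizer_singleton_iff,
        MulAut.conj_symm_apply]
      constructor
      · intro h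
        calc k⁻¹ * w * k * d = k⁻¹ * (w * (k * d * k⁻¹)) * k := by group
          _ = d * (k⁻¹ * w * k) := by rw [h]; group
      · intro h
        calc w * (k * d * k⁻¹) = k * (k⁻¹ * w * k * d) * k⁻¹ := by group
          _ = k * d * k⁻¹ * w := by rw [h]; group
    rw [this]
    exact huC.conj k
  have hdA : d ∈ A := by
    rw [hA]
    exact ⟨z, show π z ∈ ((K.planeGroup hF).map (MulAut.conj c).toMonoidHom) by rw [W.map_z]; exact one_mem _, rfl⟩
  -- the lift of the conjugating element, and the codes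
  obtain ⟨kc, hkc⟩ := W.surj c
  have hcode : ∀ h : ↥(Subgroup.centralizer ({d} : Set G)), (h : G) ∈ A → ∃ X, π (kc⁻¹ * h * kc) = K.t g0 X := by
    intro h hh
    rw [hA] at hh
    obtain ⟨h', hh', e⟩ := hh
    rw [show h = h' from Subtype.ext e.symm]
    obtain ⟨x, ⟨X, rfl⟩, hx⟩ := hh'
    exact ⟨X, by rw [map_mul, map_mul, map_inv, hkc, ← hx]; simp [mul_assoc]⟩
  have hmemA : ∀ (h : ↥(Subgroup.centralizer ({d} : Set G))) (X : Her), π (kc⁻¹ * h * kc) = K.t g0 X → (h : G) ∈ A := by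
    intro h X e
    rw [hA]
    refine ⟨h, ⟨K.t g0 X, ⟨X, rfl⟩, ?_⟩, rfl⟩
    show c * K.t g0 X * c⁻¹ = π h
    rw [← e, map_mul, map_mul, map_inv, hkc]
    group
  have hAC : ∀ x ∈ A, x ∈ (Subgroup.centralizer ({d} : Set G)) := by rw [hA]; exact Subgroup.map_subtype_le _
  have hcd : ∀ {u h : ↥(Subgroup.centralizer ({d} : Set G))}, IsConj d (h : G) ↔ IsConj d ((u * h * u⁻¹ : ↥(Subgroup.centralizer ({d} : Set G))) : G) := fun {u h} =>
    ⟨fun e => e.trans (isConj_iff.2 ⟨(u : G), rfl⟩), fun e => e.trans (isConj_iff.2 ⟨(u : G)⁻¹, by simp [mul_assoc]⟩)⟩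
  -- the fibres
  have hfib2 : ∀ e, fib π e ≤ 2 := by
    intro e
    rcases Set.eq_empty_or_nonempty {h : ↥(Subgroup.centralizer ({d} : Set G)) | π h = e ∧ IsConj d (h : G)} with h0 | ⟨h₀, hh₀⟩
    · show Set.ncard _ ≤ 2
      rw [h0, Set.ncard_empty]; norm_num
    · calc fib π e ≤ ({h₀, h₀ * z} : Set ↥(Subgroup.centralizer ({d} : Set G))).ncard := Set.ncard_le_ncard (fun h hh => W.eq_or (hh₀.1.trans hh.1.symm))
            (Set.toFinite _)
        _ ≤ 2 := (Set.ncard_insert_le _ _).trans (by rw [Set.ncard_singleton])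
  set E₁ : Her := (true, false, false, 0, 0, 0)
  set E₂ : Her := (true, true, false, 0, 0, 0)
  set E₃ : Her := (true, true, true, 0, 0, 0)
  have hr : rk E₁ = 1 ∧ rk E₂ = 2 ∧ rk E₃ = 3 := by decide +kernel
  set f : Her → ℕ := fun X => fib π (K.t g0 X) with hf
  set n₁ := f E₁ with hn₁
  set n₂ := f E₂ with hn₂
  set n₃ := f E₃ with hn₃
  have hfr : ∀ {X Y : Her}, X ≠ X0 → rk X = rk Y → f X = f Y := fun {X Y} hX h =>
    (fib_isConj π W.surj (K.isConj_of_rk hF hX h)).symm
  have hclass : ∀ X, X ≠ X0 → (rk X = 1 ∧ f X = n₁) ∨ (rk X = 2 ∧ f X = n₂) ∨ (rk X = 3 ∧ f X = n₃) := by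
    intro X hX
    have h0 : rk X ≠ 0 := fun h => hX ((rk_le X).2.1 h)
    have h3 := (rk_le X).1
    rcases (show rk X = 1 ∨ rk X = 2 ∨ rk X = 3 by omega) with h | h | h
    · exact Or.inl ⟨h, hfr hX (h.trans hr.1.symm)⟩
    · exact Or.inr (Or.inl ⟨h, hfr hX (h.trans hr.2.1.symm)⟩)
    · exact Or.inr (Or.inr ⟨h, hfr hX (h.trans hr.2.2.symm)⟩)
  have hf0 : f X0 = 1 := by
    show Set.ncard _ = 1
    refine Set.ncard_eq_one.2 ⟨z, Set.eq_singleton_iff_unique_mem.2 ⟨⟨by rw [W.map_z, K.t_one], IsConj.refl d⟩, ?_⟩⟩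
    rintro h ⟨h1, h2⟩
    rcases W.ker h (by rw [h1, K.t_one]) with rfl | rfl
    · exact absurd (isConj_one_right.1 (h2.symm : IsConj ((1 : ↥(Subgroup.centralizer ({d} : Set G))) : G) d)).symm hd1.symm
    · rfl
  set X := {x : G | x ∈ A ∧ IsConj d x} with hX
  have hcardX : X.ncard = 1 + 21 * n₁ + 210 * n₂ + 280 * n₃ := by
    set X' : Set ↥(Subgroup.centralizer ({d} : Set G)) := {h | (∃ Y, π h = K.t g0 Y) ∧ IsConj d (h : G)} with hX'
    have e1 : X.ncard = X'.ncard := by
      refine (Set.ncard_congr (fun h _ => ((kc * h * kc⁻¹ : ↥(Subgroup.centralizer ({d} : Set G))) : G)) ?_ ?_ ?_).symm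
      · rintro h ⟨⟨Y, hY⟩, hh⟩
        refine ⟨hmemA _ Y ?_, hcd.1 hh⟩
        rw [← hY]; congr 1; group
      · intro a b _ _ e
        simpa using Subtype.ext (p := fun x => x ∈ (Subgroup.centralizer ({d} : Set G))) e
      · rintro x ⟨hxA, hxd⟩
        refine ⟨kc⁻¹ * ⟨x, hAC x hxA⟩ * kc, ⟨hcode _ hxA, ?_⟩, ?_⟩
        · have := (hcd (u := kc⁻¹) (h := ⟨x, hAC x hxA⟩)).1 hxd
          simpa using this
        · simp [mul_assoc]
    have := Fintype.ofFinite ↥(Subgroup.centralizer ({d} : Set G))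
    have hmapsto : ∀ h ∈ X'.toFinset, (Function.invFun (K.t g0) (π h)) ∈ (Finset.univ : Finset Her) := fun _ _ => Finset.mem_univ _
    rw [e1, Set.ncard_eq_toFinset_card', Finset.card_eq_sum_card_fiberwise hmapsto]
    have hfibre : ∀ Y, (X'.toFinset.filter fun h => Function.invFun (K.t g0) (π h) = Y).card = f Y := by
      intro Y
      show _ = Set.ncard _
      rw [Set.ncard_eq_toFinset_card']
      congr 1
      ext h
      simp only [Finset.mem_filter, Set.mem_toFinset, hX', Set.mem_setOf_eq]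
      have hinj : Function.Injective (K.t g0) := fun a b e => (K.el_injective hF e).2
      constructor
      · rintro ⟨⟨⟨Y', hY'⟩, h2⟩, h3⟩
        rw [hY', Function.leftInverse_invFun hinj] at h3
        exact ⟨h3 ▸ hY', h2⟩
      · rintro ⟨h1, h2⟩
        exact ⟨⟨⟨Y, h1⟩, h2⟩, by rw [h1, Function.leftInverse_invFun hinj]⟩
    simp only [hfibre]
    rw [← Finset.sum_fiberwise_of_maps_to (g := rk) (t := Finset.range 4) fun Y _ =>
      Finset.mem_range.2 (Nat.lt_succ_of_le (rk_le Y).1)]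
    rw [Finset.sum_range_succ, Finset.sum_range_succ, Finset.sum_range_succ, Finset.sum_range_one]
    have part : ∀ (k n : ℕ), (∀ Y, rk Y = k → f Y = n) → ∀ N, (Finset.univ.filter fun Y : Her => rk Y = k).card = N →
        ∑ Y ∈ Finset.univ.filter (fun Y : Her => rk Y = k), f Y = N * n := fun k n h N hN => by
      rw [Finset.sum_const_nat (m := n) fun Y hY => h Y (Finset.mem_filter.1 hY).2, hN]
    have h00 : (Finset.univ.filter fun Y : Her => rk Y = 0).card = 1 := by
      rw [Finset.card_eq_one]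
      exact ⟨X0, Finset.ext fun Y => by simp only [Finset.mem_filter, Finset.mem_univ, true_and, (rk_le Y).2,
        Finset.mem_singleton]⟩
    have nz : ∀ {Y : Her} {k : ℕ}, rk Y = k → k ≠ 0 → Y ≠ X0 := fun {Y k} h hk e => hk (by
      rw [← h, (rk_le Y).2.2 e])
    rw [part 0 1 (fun Y h => by rw [(rk_le Y).2.1 h, hf0]) 1 h00,
      part 1 n₁ (fun Y h => hfr (nz h one_ne_zero) (h.trans hr.1.symm)) 21 rk_counts.1,
      part 2 n₂ (fun Y h => hfr (nz h two_ne_zero) (h.trans hr.2.1.symm)) 210 rk_counts.2.1,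
      part 3 n₃ (fun Y h => hfr (nz h three_ne_zero) (h.trans hr.2.2.symm)) 280 rk_counts.2.2]
  -- the orbit
  have horbit : {y | ∃ m ∈ Subgroup.normalizer (A : Set G), m * d * m⁻¹ = y} = X := by
    ext y
    constructor
    · rintro ⟨m, hm, rfl⟩
      exact ⟨(Subgroup.mem_normalizer_iff.1 hm d).1 hdA, isConj_iff.2 ⟨m, rfl⟩⟩
    · rintro ⟨hy, hdy⟩
      exact htrans d hdA y hy (IsConj.refl d) hdy
  have bad : ∀ p : ℕ, p.Prime → (∀ k < 10, ¬ p ∣ 2 ^ 10 - 2 ^ k) → ¬ p ∣ X.ncard := fun p hp hk hdvd => by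
    obtain ⟨k, hk', h⟩ := prime_dvd_orbit_pow hel hdA hp (by rw [horbit]; exact hdvd)
    exact hk k hk' h
  -- some class occurs
  have hpos : n₁ ≠ 0 ∨ n₂ ≠ 0 ∨ n₃ ≠ 0 := by
    obtain ⟨g, hgC, hgd⟩ := hnwc
    set h : ↥(Subgroup.centralizer ({d} : Set G)) := ⟨g * d * g⁻¹, hgC⟩ with hh
    have hne : π h ≠ 1 := fun e => by
      rcases W.ker h e with e | e
      · exact hd1 (by simpa [hh] using congrArg Subtype.val e)
      · exact hgd (congrArg Subtype.val e)
    have h2 : π h * π h = 1 := by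
      rw [← map_mul, show h * h = 1 from Subtype.ext (by
        show g * d * g⁻¹ * (g * d * g⁻¹) = 1
        rw [show g * d * g⁻¹ * (g * d * g⁻¹) = g * (d * d) * g⁻¹ by group, hdd, mul_one, mul_inv_cancel]),
        map_one]
    obtain ⟨Y, hY, hconj⟩ := K.exists_conj_plane hF h2 hne
    have : 0 < f Y := by
      show 0 < fib π _
      rw [fib_isConj π W.surj hconj]
      exact (Set.ncard_pos (Set.toFinite _)).2 ⟨h, rfl, isConj_iff.2 ⟨g, rfl⟩⟩
    rcases hclass Y hY with ⟨-, e⟩ | ⟨-, e⟩ | ⟨-, e⟩ <;> omega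
  -- how the conjugates lie in the cosets of `d`
  have hdX : d ∈ X := ⟨hdA, IsConj.refl d⟩
  have split : ∀ w ∈ A, w ≠ 1 → w ≠ d → ∃ Y, Y ≠ X0 ∧
      (f Y = 0 → w ∉ X ∧ d * w ∉ X) ∧ (f Y = 2 → w ∈ X ∧ d * w ∈ X) ∧ (f Y = 1 → (w ∈ X ↔ d * w ∉ X)) := by
    intro w hw hw1 hwd
    set h : ↥(Subgroup.centralizer ({d} : Set G)) := kc⁻¹ * ⟨w, hAC w hw⟩ * kc with hh
    obtain ⟨Y, hY⟩ := hcode ⟨w, hAC w hw⟩ hw
    rw [← hh] at hY
    have hwh : (⟨w, hAC w hw⟩ : ↥(Subgroup.centralizer ({d} : Set G))) = kc * h * kc⁻¹ := by rw [hh]; group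
    refine ⟨Y, fun e => ?_, ?_⟩
    · subst e
      rw [K.t_one] at hY
      rcases W.ker h hY with e | e
      · exact hw1 (congrArg Subtype.val (hwh.trans (show kc * h * kc⁻¹ = 1 by rw [e, mul_one, mul_inv_cancel])))
      · exact hwd (congrArg Subtype.val (hwh.trans (show kc * h * kc⁻¹ = z by
          rw [e, ← (W.cent kc).eq, mul_inv_cancel_right])))
    have hset : {k : ↥(Subgroup.centralizer ({d} : Set G)) | π k = K.t g0 Y ∧ IsConj d (k : G)} = {k | (k = h ∨ k = h * z) ∧ IsConj d (k : G)} := by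
      ext k
      refine ⟨fun ⟨e, hk⟩ => ⟨W.eq_or (hY.trans e.symm), hk⟩, ?_⟩
      rintro ⟨rfl | rfl, hk⟩
      · exact ⟨hY, hk⟩
      · exact ⟨by rw [map_mul, W.map_z, mul_one, hY], hk⟩
    have a1 : w ∈ X ↔ IsConj d (h : G) := by
      rw [show (w : G) = ((kc * h * kc⁻¹ : ↥(Subgroup.centralizer ({d} : Set G))) : G) from congrArg Subtype.val hwh] at hw ⊢
      exact ⟨fun e => hcd.2 e.2, fun e => ⟨hw, hcd.1 e⟩⟩
    have a2 : d * w ∈ X ↔ IsConj d ((h * z : ↥(Subgroup.centralizer ({d} : Set G))) : G) := by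
      have hdw : d * w = ((kc * (h * z) * kc⁻¹ : ↥(Subgroup.centralizer ({d} : Set G))) : G) := by
        rw [show kc * (h * z) * kc⁻¹ = z * (kc * h * kc⁻¹) by
          rw [← (W.cent (h : ↥(Subgroup.centralizer ({d} : Set G)))).eq, ← mul_assoc kc z, ← (W.cent kc).eq]; group, ← hwh]
        rfl
      rw [hdw]
      refine ⟨fun e => hcd.2 e.2, fun e => ⟨?_, hcd.1 e⟩⟩
      rw [← hdw]; exact mul_mem hdA hw
    have hne : h ≠ h * z := fun e => hz1 (left_eq_mul.1 e)
    have hfY : f Y = {k : ↥(Subgroup.centralizer ({d} : Set G)) | (k = h ∨ k = h * z) ∧ IsConj d (k : G)}.ncard := by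
      show Set.ncard _ = _; rw [hset]
    rw [a1, a2]
    by_cases b1 : IsConj d (h : G) <;> by_cases b2 : IsConj d ((h * z : ↥(Subgroup.centralizer ({d} : Set G))) : G)
    · rw [show {k : ↥(Subgroup.centralizer ({d} : Set G)) | (k = h ∨ k = h * z) ∧ IsConj d (k : G)} = {h, h * z} from Set.ext fun k =>
        ⟨fun e => e.1, fun e => ⟨e, by rcases e with rfl | rfl <;> assumption⟩⟩, Set.ncard_pair hne] at hfY
      exact ⟨fun e => by omega, fun _ => ⟨b1, b2⟩, fun e => by omega⟩
    · rw [show {k : ↥(Subgroup.centralizer ({d} : Set G)) | (k = h ∨ k = h * z) ∧ IsConj d (k : G)} = {h} from Set.ext fun k =>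
        ⟨fun e => e.1.resolve_right fun r => b2 (r ▸ e.2), fun e => ⟨Or.inl e, e.symm ▸ b1⟩⟩,
        Set.ncard_singleton] at hfY
      exact ⟨fun e => by omega, fun e => by omega, fun _ => ⟨fun _ => b2, fun _ => b1⟩⟩
    · rw [show {k : ↥(Subgroup.centralizer ({d} : Set G)) | (k = h ∨ k = h * z) ∧ IsConj d (k : G)} = {h * z} from Set.ext fun k =>
        ⟨fun e => e.1.resolve_left fun r => b1 (r ▸ e.2), fun e => ⟨Or.inr e, e.symm ▸ b2⟩⟩,
        Set.ncard_singleton] at hfY
      exact ⟨fun e => by omega, fun e => by omega, fun _ => ⟨fun e => absurd e b1, fun e => absurd b2 e⟩⟩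
    · rw [show {k : ↥(Subgroup.centralizer ({d} : Set G)) | (k = h ∨ k = h * z) ∧ IsConj d (k : G)} = ∅ from Set.eq_empty_iff_forall_notMem.2
        fun k e => by rcases e with ⟨rfl | rfl, e⟩ <;> contradiction, Set.ncard_empty] at hfY
      exact ⟨fun _ => ⟨b1, b2⟩, fun e => by omega, fun e => by omega⟩
  -- moving `d` to any member
  have move : ∀ x ∈ X, ∃ m : G, m * d * m⁻¹ = x ∧ (∀ w, m * w * m⁻¹ ∈ A ↔ w ∈ A) ∧
      ∀ w, m * w * m⁻¹ ∈ X ↔ w ∈ X := by
    intro x hx
    obtain ⟨m, hm, hmd⟩ := htrans d hdA x hx.1 (IsConj.refl d) hx.2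
    have hAm : ∀ w, m * w * m⁻¹ ∈ A ↔ w ∈ A := fun w => (Subgroup.mem_normalizer_iff.1 hm w).symm
    exact ⟨m, hmd, hAm, fun w => and_congr (hAm w) ⟨fun e => e.trans (isConj_iff.2 ⟨m⁻¹, by simp [mul_assoc]⟩),
      fun e => e.trans (isConj_iff.2 ⟨m, rfl⟩)⟩⟩
  have subgroupXc : (∀ Y, Y ≠ X0 → f Y ≠ 0) → ∃ R : Subgroup G, (R : Set G) = (A : Set G) \ X := by
    intro hf1
    have hd' : ∀ w ∈ A, w ∉ X → d * w ∈ X := by
      intro w hw hwX
      by_cases h1 : w = 1
      · rw [h1, mul_one]; exact hdX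
      have h2 : w ≠ d := fun e => hwX (e ▸ hdX)
      obtain ⟨Y, hY, -, g2, g1⟩ := split w hw h1 h2
      have hle : f Y ≤ 2 := hfib2 (K.t g0 Y)
      rcases (show f Y = 1 ∨ f Y = 2 by have := hf1 Y hY; omega) with e | e
      · by_contra hn
        exact hwX ((g1 e).2 hn)
      · exact absurd (g2 e).1 hwX
    have hx : ∀ x ∈ X, ∀ w ∈ A, w ∉ X → x * w ∈ X := by
      intro x hx w hw hwX
      obtain ⟨m, rfl, hAm, hXm⟩ := move x hx
      have := hd' (m⁻¹ * w * m) ((hAm _).1 (by simpa [mul_assoc] using hw))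
        fun e => hwX (by simpa [mul_assoc] using (hXm _).2 e)
      simpa [mul_assoc] using (hXm _).2 this
    refine ⟨{ carrier := (A : Set G) \ X
              one_mem' := ⟨one_mem A, fun e => hd1 (isConj_one_left.1 e.2)⟩
              mul_mem' := ?_
              inv_mem' := ?_ }, rfl⟩
    · rintro a b ⟨ha, haX⟩ ⟨hb, hbX⟩
      refine ⟨mul_mem ha hb, fun e => hbX ?_⟩
      have := hx _ e a ha haX
      rwa [(hel.comm a ha b hb).eq, mul_assoc, hel.sq a ha, mul_one] at this
    · rintro a ⟨ha, haX⟩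
      rw [inv_eq_of_mul_eq_one_right (hel.sq a ha)]
      exact ⟨ha, haX⟩
  have hcardXc : ((A : Set G) \ X).ncard = 2 ^ 10 - X.ncard := by
    rw [Set.ncard_diff (fun x hx => hx.1), ← Nat.card_coe_set_eq (A : Set G), SetLike.coe_sort_coe, hel.card]
  refine ⟨⟨⟨⟨fun x y => Subtype.ext (hel.comm _ x.2 _ y.2).eq⟩⟩, fun x hx => by rw [pow_two]; exact hel.sq x hx⟩,
    hel.card, ?_⟩
  suffices key : n₁ = 1 ∧ n₂ = 0 ∧ n₃ = 0 by
    refine ⟨by show X.ncard = 22; omega, htrans, fun Y hY => ?_⟩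
    show f Y = _
    rcases hclass Y hY with ⟨h, e⟩ | ⟨h, e⟩ | ⟨h, e⟩
    · rw [if_pos h, e, key.1]
    · rw [if_neg (by omega), e, key.2.1]
    · rw [if_neg (by omega), e, key.2.2]
  have b1 : n₁ ≤ 2 := hfib2 _
  have b2 : n₂ ≤ 2 := hfib2 _
  have b3 : n₃ ≤ 2 := hfib2 _
  have hno : ¬ ∃ p ∈ [13, 19, 23, 29, 43, 67, 97, 109, 151, 167, 211, 257, 271, 281, 421, 463, 491, 701, 743],
      p ∣ X.ncard := by
    rintro ⟨p, hp, hdvd⟩
    simp only [List.mem_cons, List.not_mem_nil, or_false] at hp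
    rcases hp with rfl | rfl | rfl | rfl | rfl | rfl | rfl | rfl | rfl | rfl | rfl | rfl | rfl | rfl | rfl | rfl |
        rfl | rfl | rfl <;>
      exact bad _ (by norm_num) (by decide) hdvd
  interval_cases hc1 : n₁ <;> interval_cases hc2 : n₂ <;> interval_cases hc3 : n₃ <;>
    simp only [Nat.reduceMul, Nat.reduceAdd, mul_zero, add_zero] at hcardX
  all_goals first
    | exact ⟨rfl, rfl, rfl⟩
    | (exfalso; omega)
    | (exfalso; refine hno ?_; rw [hcardX]; decide +kernel)
    | skip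
  all_goals exfalso
  · -- only the largest class, twice
    have hd' : ∀ w ∈ A, w ≠ 1 → w ≠ d → (w ∈ X ↔ d * w ∈ X) := by
      intro w hw h1 h2
      obtain ⟨Y, hY, g0', g2, -⟩ := split w hw h1 h2
      rcases hclass Y hY with ⟨-, e⟩ | ⟨-, e⟩ | ⟨-, e⟩
      · exact iff_of_false (g0' (by omega)).1 (g0' (by omega)).2
      · exact iff_of_false (g0' (by omega)).1 (g0' (by omega)).2
      · exact iff_of_true (g2 (by omega)).1 (g2 (by omega)).2
    let R : Subgroup G :=
      { carrier := insert 1 X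
        one_mem' := Set.mem_insert _ _
        mul_mem' := by
          rintro x y (rfl | hx) hy
          · rwa [one_mul]
          rcases hy with rfl | hy
          · rw [mul_one]; exact Set.mem_insert_of_mem _ hx
          by_cases he : x = y
          · rw [he, hel.sq y hy.1]; exact Set.mem_insert _ _
          obtain ⟨m, rfl, hAm, hXm⟩ := move x hx
          refine Set.mem_insert_of_mem _ ?_
          have hy' : m⁻¹ * y * m ∈ A := (hAm _).1 (by simpa [mul_assoc] using hy.1)
          have := (hd' _ hy' (fun e => ?_) fun e => ?_).1 ((hXm _).1 (by simpa [mul_assoc] using hy))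
          · simpa [mul_assoc] using (hXm _).2 this
          · have : y = 1 := by
              calc y = m * (m⁻¹ * y * m) * m⁻¹ := by group
                _ = 1 := by rw [e]; group
            exact hd1 (isConj_one_left.1 (this ▸ hy.2))
          · apply he
            calc m * d * m⁻¹ = m * (m⁻¹ * y * m) * m⁻¹ := by rw [e]
              _ = y := by group
        inv_mem' := by
          rintro x (rfl | hx)
          · exact Or.inl inv_one
          · rw [inv_eq_of_mul_eq_one_right (hel.sq x hx.1)]; exact Or.inr hx }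
    have hRA : R ≤ A := by
      rintro x (rfl | hx)
      exacts [one_mem A, hx.1]
    have hRc : Nat.card R = 562 := by
      rw [← SetLike.coe_sort_coe, Nat.card_coe_set_eq]
      show (insert 1 X).ncard = 562
      rw [Set.ncard_insert_of_notMem (fun e => hd1 (isConj_one_left.1 e.2)) (Set.toFinite _), hcardX]
    have := Subgroup.card_dvd_of_le hRA
    rw [hRc, hel.card] at this
    norm_num at this
  · -- a subgroup of index two: excluded by transfer
    obtain ⟨R, hR⟩ := subgroupXc fun Y hY => by rcases hclass Y hY with ⟨-, e⟩ | ⟨-, e⟩ | ⟨-, e⟩ <;> omega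
    have hone : ∀ h : ↥(Subgroup.centralizer ({d} : Set G)), π h * π h = 1 → π h ≠ 1 → fib π (π h) = 1 := by
      intro h h2 h1
      obtain ⟨Y, hY, hc'⟩ := K.exists_conj_plane hF h2 h1
      rw [← fib_isConj π W.surj hc']
      rcases hclass Y hY with ⟨-, e⟩ | ⟨-, e⟩ | ⟨-, e⟩ <;> exact e
    refine W.no_selection hF hz1 hperf K (fun h => ¬ IsConj d (h : G)) (fun k h hh e => hh (hcd.2 e)) ?_ ?_
    · intro h h2 h1
      rw [not_not]
      have hs := hone h h2 h1
      have hpz : π (h * z) = π h := by rw [map_mul, W.map_z, mul_one]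
      obtain ⟨u, hu⟩ := Set.ncard_eq_one.1 hs
      have hu' : π u = π h ∧ IsConj d (u : G) := (Set.ext_iff.1 hu u).2 rfl
      constructor
      · intro hn
        rcases W.eq_or hu'.1.symm with e | e
        · exact absurd (e ▸ hu'.2) hn
        · exact e ▸ hu'.2
      · intro hzc hc2
        have e1 := (Set.ext_iff.1 hu h).1 ⟨rfl, hc2⟩
        have e2 := (Set.ext_iff.1 hu (h * z)).1 ⟨hpz, hzc⟩
        exact hz1 (left_eq_mul.1 (e1.trans e2.symm))
    · -- the members over the plane group form the subgroup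
      have iff : ∀ h : ↥(Subgroup.centralizer ({d} : Set G)), h ∈ DCover.sel π (fun h => ¬ IsConj d (h : G)) (K.planeGroup hF) ↔
          ((kc * h * kc⁻¹ : ↥(Subgroup.centralizer ({d} : Set G))) : G) ∈ R := by
        intro h
        have hR' : ∀ x : G, x ∈ R ↔ x ∈ A ∧ x ∉ X := fun x => Set.ext_iff.1 hR x
        rw [hR']
        constructor
        · rintro (rfl | ⟨⟨Y, hY⟩, -, hn⟩)
          · refine ⟨by simp, fun e => hd1 (isConj_one_left.1 (by simpa using e.2))⟩
          · refine ⟨hmemA _ Y ?_, fun e => hn (hcd.2 e.2)⟩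
            show π _ = K.t g0 Y
            rw [show kc⁻¹ * (kc * h * kc⁻¹) * kc = h by group]
            exact hY.symm
        · rintro ⟨hA', hn⟩
          by_cases hh : h = 1
          · exact Or.inl hh
          obtain ⟨Y, hY⟩ := hcode _ hA'
          rw [show kc⁻¹ * (kc * h * kc⁻¹) * kc = h by group] at hY
          refine Or.inr ⟨⟨Y, hY.symm⟩, fun e => ?_, fun e => hn ⟨hA', hcd.1 e⟩⟩
          rcases W.ker h e with r | r
          · exact hh r
          · exact hn ⟨hA', hcd.1 (r ▸ IsConj.refl d)⟩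
      intro h hh k hk
      rw [iff] at hh hk ⊢
      rw [show kc * (h * k) * kc⁻¹ = kc * h * kc⁻¹ * (kc * k * kc⁻¹) by group, Subgroup.coe_mul]
      exact mul_mem hh hk
  · -- a subgroup of order 232
    obtain ⟨R, hR⟩ := subgroupXc fun Y hY => by rcases hclass Y hY with ⟨-, e⟩ | ⟨-, e⟩ | ⟨-, e⟩ <;> omega
    have := Subgroup.card_dvd_of_le (show R ≤ A from fun x hx => ((Set.ext_iff.1 hR x).1 hx).1)
    rw [← SetLike.coe_sort_coe, Nat.card_coe_set_eq, hR, hcardXc, hcardX, hel.card] at this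
    norm_num at this
  · -- every involution of `A` would be a conjugate, but some are squares
    obtain ⟨y, hy⟩ := W.surj (K.t (1, 0, 1) X0)
    have h2 : π (y * y) ≠ 1 := by
      rw [map_mul, hy, K.t_mul_uni hF, ← K.t_one]
      exact fun e => order_four_code (K.el_injective hF e).1
    have h4 : π (y * y) * π (y * y) = 1 := by
      rw [map_mul, hy, K.t_mul_uni hF, K.t_mul_uni hF, ← K.t_one]
      congr 1
    obtain ⟨Y, hY, hc'⟩ := K.exists_conj_plane hF h4 h2
    have hf2 : fib π (π (y * y)) = 2 := by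
      rw [← fib_isConj π W.surj hc']
      rcases hclass Y hY with ⟨-, e⟩ | ⟨-, e⟩ | ⟨-, e⟩ <;> exact e
    have hyy : IsConj d ((y * y : ↥(Subgroup.centralizer ({d} : Set G))) : G) := by
      by_contra hn
      have : fib π (π (y * y)) ≤ 1 := by
        calc fib π (π (y * y)) ≤ ({y * y * z} : Set ↥(Subgroup.centralizer ({d} : Set G))).ncard := Set.ncard_le_ncard (fun k hk => by
              rcases W.eq_or hk.1.symm with e | e
              · exact absurd (e ▸ hk.2) hn
              · exact e) (Set.toFinite _)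
          _ = 1 := Set.ncard_singleton _
      omega
    obtain ⟨g, hg⟩ := isConj_iff.1 hyy
    set s : G := g⁻¹ * (y : G) * g with hs
    have hss : s * s = d := by
      rw [hs, show g⁻¹ * (y : G) * g * (g⁻¹ * y * g) = g⁻¹ * ((y * y : ↥(Subgroup.centralizer ({d} : Set G))) : G) * g by rw [Subgroup.coe_mul]; group,
        ← hg]
      group
    have hsC : s ∈ (Subgroup.centralizer ({d} : Set G)) := Subgroup.mem_centralizer_singleton_iff.2 (by rw [← hss]; group)
    have hps : π ⟨s, hsC⟩ * π ⟨s, hsC⟩ = 1 := by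
      rw [← map_mul, show (⟨s, hsC⟩ * ⟨s, hsC⟩ : ↥(Subgroup.centralizer ({d} : Set G))) = z from Subtype.ext hss, W.map_z]
    exact hd1 (hss.symm.trans (congrArg Subtype.val (W.sq_one_of_image hF hps)))

/-- The statement for the centraliser of an involution that is a double cover of `PSU₆(2)`. -/
theorem thompson_statement (hF : Fintype.card F = 2 ^ 2) (hd : orderOf d = 2)
    (π : ↥(Subgroup.centralizer ({d} : Set G)) →* PSU6)
    (W : DCover π ⟨d, Subgroup.mem_centralizer_singleton_iff.2 rfl⟩)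
    (hperf : commutator ↥(Subgroup.centralizer ({d} : Set G)) = ⊤)
    (hnwc : ∃ g : G, g * d * g⁻¹ ∈ Subgroup.centralizer ({d} : Set G) ∧ g * d * g⁻¹ ≠ d)
    (P : Sylow 2 ↥(Subgroup.centralizer ({d} : Set G))) (A : Subgroup G)
    (hA : A = (Cfsg.thompsonSubgroupOf 2 (P : Subgroup ↥(Subgroup.centralizer ({d} : Set G)))).map
      (Subgroup.centralizer ({d} : Set G)).subtype) :
    Cfsg.IsElementaryAbelian 2 A ∧ Nat.card A = 2 ^ 10 ∧ Set.ncard {x : G | x ∈ A ∧ IsConj d x} = 22 ∧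
      ∀ x ∈ A, ∀ y ∈ A, IsConj d x → IsConj d y → ∃ n ∈ Subgroup.normalizer (A : Set G), n * x * n⁻¹ = y := by
  obtain ⟨K⟩ := exists_coord hF
  obtain ⟨h1, h2, h3, h4, -⟩ := thompson_full K hF hd π W hperf hnwc P A hA
  exact ⟨h1, h2, h3, h4⟩

end CfsgLib.U6.Plane
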